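import Groth.Agent.Fga.QA1
import Mathlib.Algebra.Polynomial.Degree.Lemmas
import Mathlib.Algebra.Polynomial.Eval.Degree

/-!
# Numerical functions and integer valued polynomials
-/

set_option autoImplicit false

namespace K277.NumPoly

open Groth.Agent.Fga.QA1 Polynomial

/-- An integer valued polynomial function of degree `< c` is `Num c`. -/
theorem num_of_poly : ∀ (c : ℕ) (P : ℚ[X]) (_ : P.degree < c) (Φ : ℤ → ℤ)
    (_ : ∀ m : ℤ, (Φ m : ℚ) = P.eval (m : ℚ)), Num c Φ
  | 0, P, hP, Φ, h => by
    intro d
    have h0 : P = 0 := by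
      rw [← degree_eq_bot]
      have : P.degree < 0 := by simpa using hP
      by_contra hne
      exact absurd (zero_le_degree_iff.2 (fun h => hne (by rw [h, degree_zero]))) (not_le.2 this)
    have h1 := h d
    rw [h0, eval_zero] at h1
    exact_mod_cast h1
  | c + 1, P, hP, Φ, h => by
    refine num_of_poly c (P - P.comp (X - C 1)) ?_ (nab Φ) ?_
    · by_cases h0 : P = 0
      · rw [h0, zero_comp, sub_zero, degree_zero]
        exact WithBot.bot_lt_coe _
      · have hl : (X - C (1 : ℚ)).natDegree = 1 := natDegree_X_sub_C 1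
        have hlc : (P.comp (X - C 1)).leadingCoeff = P.leadingCoeff := by
          rw [leadingCoeff_comp (by rw [hl]; exact one_ne_zero), leadingCoeff_X_sub_C, one_pow, mul_one]
        have hne : P.comp (X - C 1) ≠ 0 := by
          rw [← leadingCoeff_ne_zero, hlc]
          exact leadingCoeff_ne_zero.2 h0
        have hd : P.degree = (P.comp (X - C 1)).degree := by
          rw [degree_eq_natDegree h0, degree_eq_natDegree hne, natDegree_comp, hl, mul_one]
        have h1 := degree_sub_lt_left hd h0 hlc.symm
        refine h1.trans_le ?_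
        rw [degree_eq_natDegree h0] at hP ⊢
        have : P.natDegree < c + 1 := by exact_mod_cast hP
        exact_mod_cast Nat.lt_succ_iff.1 this
    · intro m
      rw [nab, eval_sub, eval_comp, eval_sub, eval_X, eval_C]
      push_cast
      rw [h m, h (m - 1)]
      push_cast
      rfl

theorem num_of_poly' (P : ℚ[X]) (Φ : ℤ → ℤ) (h : ∀ m : ℤ, (Φ m : ℚ) = P.eval (m : ℚ)) : Num (P.natDegree + 1) Φ :=
  num_of_poly _ P (by
    refine degree_le_natDegree.trans_lt ?_
    exact_mod_cast Nat.lt_succ_self _) Φ h

end K277.NumPoly
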