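import Groth.Agent.FGA.K277.TwSecIso
import Groth.Agent.FGA.K277.NumPoly
import Groth.Agent.Ega3A.PChart
import Groth.Agent.Fga.MumInputs
import Groth.Agent.CurvesC.CurveNum
import Groth.Agent.VarietyB.ProjForm
import Groth.Agent.VarietyB.ExactLoc
import Groth.Agent.CohqA.AffPush
import Groth.Agent.Fga.PicMon
import Groth.Agent.Ega3B.ProjProper
import Groth.Agent.S2426

/-!
# Euler characteristics of `F(m)` and the Hilbert function, over a field

`Y` closed in `P^n_k` (`g : Y ⟶ P^n_ℤ`, `Y` over `Spec k`), `F` coherent on `Y`.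

* `twg g F m = F ⊗ g^* O(m)`, `chi k g F m = χ(F(m))` (degrees `≤ n`), `m : ℤ`;
* `exists_poly` : `chi` is a polynomial; `num_chi`;
* `exists_vanish` : Serre vanishing;
* `chi_eq_hilb` : `chi m = hilb m` for `m ≫ 0`;
* `hasHilb_iff_chi` : `HasHilb g q F Φ ↔ ∀ m, chi m = Φ m` for numerical `Φ`.
-/

set_option autoImplicit false
universe u

open CategoryTheory CategoryTheory.Limits AlgebraicGeometry Opposite TopologicalSpace

namespace K277.ChiHilb

open Groth.Agent Fga.QTDefs Fga.QT4b Fga.QT8 Frames TwSecIso Fga.QA1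

variable {n : ℕ} {Y : Scheme.{u}}

/-- `F(m) = F ⊗ g^* O(m)`. -/
noncomputable def twg (g : Y ⟶ PZ n) (F : Y.Modules) (m : ℤ) : Y.Modules :=
  CohB1.tensorMod F ((Scheme.Modules.pullback g).obj (Twist.twistProjSpace n (ULift.{u} ℤ) m))

variable (k : Type u) [Field k] [Y.Over (Spec (CommRingCat.of k))]

/-- `χ(F(m))`. -/
noncomputable def chi (g : Y ⟶ PZ n) (F : Y.Modules) (m : ℤ) : ℤ := FGA.eulerCharLE k Y (twg g F m) n

variable (g : Y ⟶ PZ n)

/-- The closed immersion in `P^n_k`. -/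
noncomputable def emb : Y ⟶ CohB1.ProjSpace n k :=
  toPA g (Y ↘ Spec (CommRingCat.of k)) ≫ (CohqB.ProjBC.projSpaceOverIso n k).hom

instance [IsClosedImmersion (toPA g (Y ↘ Spec (CommRingCat.of k)))] : IsClosedImmersion (emb k g) := by
  unfold emb
  infer_instance

lemma emb_toSpec : emb k g ≫ CohB1.ProjSpace.toSpec n k = Y ↘ Spec (CommRingCat.of k) := by
  rw [emb, Category.assoc, CohqB.ProjBC.projSpaceOverIso_hom_toSpec]
  exact pullback.lift_snd _ _ _

lemma emb_pmap : emb k g ≫ CohqB.ProjBC.pmap (Ega3A.PChart.zmap k) n = g := by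
  rw [emb, Category.assoc, ← Ega3A.PChart.projSpaceOverIso_inv_fstZ, Iso.hom_inv_id_assoc]
  exact pullback.lift_fst _ _ _

/-- `i^* O(m) ≅ g^* O(m)`. -/
noncomputable def embTwist (m : ℤ) : (Scheme.Modules.pullback (emb k g)).obj (Twist.twistProjSpace n k m) ≅
    (Scheme.Modules.pullback g).obj (Twist.twistProjSpace n (ULift.{u} ℤ) m) :=
  (Scheme.Modules.pullback (emb k g)).mapIso (Ega3A.PChart.pullTwistIso (Ega3A.PChart.zmap k) n m).symm ≪≫
    (Scheme.Modules.pullbackComp (emb k g) (CohqB.ProjBC.pmap (Ega3A.PChart.zmap k) n)).app _ ≪≫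
    (Scheme.Modules.pullbackCongr (emb_pmap k g)).app _

/-- `F ⊗ i^* O(m) ≅ F(m)`. -/
noncomputable def twIso (F : Y.Modules) (m : ℤ) :
    CohB1.tensorMod F ((Scheme.Modules.pullback (emb k g)).obj (Twist.twistProjSpace n k m)) ≅ twg g F m :=
  Ega2.Tens.mapTIso (Iso.refl F) (embTwist k g m)

/-- `i_*(F(d)) ≅ (i_*F)(d)`. -/
noncomputable def pushTwist {i : Y ⟶ CohB1.ProjSpace n k} (F : Y.Modules) (d : ℤ) :
    (Scheme.Modules.pushforward i).obj (CohB1.tensorMod F ((Scheme.Modules.pullback i).obj (Twist.twistProjSpace n k d))) ≅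
      CohB1.tensorMod ((Scheme.Modules.pushforward i).obj F) (Twist.twistProjSpace n k d) :=
  (Scheme.Modules.pushforward i).mapIso (Ega2.Tens.swap F _) ≪≫
    (VarietyB.ProjForm.projIso i (VarietyB.ExactLoc.hasBasis_of_isFinLocFreeOfRank
    (Ega2.QCohLocal.isFinLocFreeOfRank_one_iff.mpr (FormalB.TwistGen.isInvertible_twistProjSpace n k d))) F).symm ≪≫
      Ega2.Tens.swap _ _

variable [IsClosedImmersion (toPA g (Y ↘ Spec (CommRingCat.of k)))] {F : Y.Modules}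

/-- `χ(F(m))` is a polynomial in `m`. -/
theorem exists_poly (hF : Coh.IsCoh F) : ∃ P : Polynomial ℚ, ∀ m : ℤ, (chi k g F m : ℚ) = P.eval (m : ℚ) := by
  obtain ⟨φ, hφ⟩ := Groth.Agent.S2426.result k n Y (emb k g) (emb_toSpec k g) F hF
  refine ⟨φ, fun d => ?_⟩
  rw [← hφ d, chi, ← Fga.EulerIso.eulerCharLE_congr k (twIso k g F d) n, FGA.eulerCharLE]
  push_cast
  refine Finset.sum_congr rfl fun j _ => ?_
  congr 2
  rw [Module.length_eq_rank]
  rfl

theorem num_chi (hF : Coh.IsCoh F) : ∃ c : ℕ, Num c (chi k g F) := by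
  obtain ⟨P, hP⟩ := exists_poly k g hF
  exact ⟨_, NumPoly.num_of_poly' P _ hP⟩

include k in
/-- Serre vanishing. -/
theorem exists_vanish (hF : Coh.IsCoh F) : ∃ m₀ : ℤ, ∀ m : ℤ, m₀ ≤ m → ∀ i : ℕ, 1 ≤ i →
    Subsingleton (Coh.HH Y (twg g F m) i) := by
  have h1 : Coh.IsCoh ((Scheme.Modules.pushforward (emb k g)).obj F) :=
    ⟨CohqA.AffPush.isQCoh_push (emb k g) F hF.1, CohqA.AffPush.isFT_push (emb k g) F hF.1 hF.2⟩
  obtain ⟨m₀, hm₀⟩ := Fga.MumInputs.serre k n _ h1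
  refine ⟨m₀, fun m hm i hi => ?_⟩
  have h2 := hm₀ m hm i hi
  have e1 := CurvesC.CurveNum.hhPush (emb k g)
    (CohB1.tensorMod F ((Scheme.Modules.pullback (emb k g)).obj (Twist.twistProjSpace n k m))) i
  have e2 := Fga.PicMon.hmapEquiv k (CohB1.ProjSpace n k) (pushTwist k (i := emb k g) F m) i
  have e3 := Fga.EulerIso.HHequiv k (twIso k g F m) i
  have h3 := (e1.toEquiv.trans e2.toAddEquiv.toEquiv).subsingleton
  exact e3.toEquiv.symm.subsingleton

/-- `χ(F(m)) = dim H⁰(F(m))` for `m ≫ 0`. -/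
theorem chi_eq_hilb (hF : Coh.IsCoh F) : ∃ D : ℕ, ∀ d : ℕ, D ≤ d →
    chi k g F (d : ℤ) = hilb g (Y ↘ Spec (CommRingCat.of k)) F d := by
  obtain ⟨m₀, hm₀⟩ := exists_vanish k g hF
  refine ⟨m₀.toNat, fun d hd => ?_⟩
  rw [chi, FGA.eulerCharLE, Finset.sum_eq_single 0, pow_zero, one_mul]
  · rw [hilb, ← (hhEquiv F (TwFr.of g (d : ℤ)) : _ ≃ₗ[k] _).finrank_eq]
    rfl
  · intro i _ hi
    have := hm₀ d (by omega) i (by omega)
    rw [Module.finrank_zero_of_subsingleton]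
    simp
  · intro h
    simp at h

/-- **The Hilbert function and the Euler characteristic.** -/
theorem hasHilb_iff_chi (hF : Coh.IsCoh F) {c : ℕ} {Φ : ℤ → ℤ} (hΦ : Num c Φ) :
    HasHilb g (Y ↘ Spec (CommRingCat.of k)) F Φ ↔ ∀ m : ℤ, chi k g F m = Φ m := by
  obtain ⟨c', hc'⟩ := num_chi k g hF
  obtain ⟨D, hD⟩ := chi_eq_hilb k g hF
  have h1 : HasHilb g (Y ↘ Spec (CommRingCat.of k)) F (chi k g F) := ⟨D, fun d hd => (hD d hd).symm⟩
  constructor
  · intro h m
    rw [HasHilb.unique (hc'.mono (le_max_left c' c)) (hΦ.mono (le_max_right c' c)) h1 h]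
  · intro h
    have : chi k g F = Φ := funext h
    rw [← this]
    exact h1

end K277.ChiHilb
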