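import Groth.Agent.FGA.K277.ChiHilb
import Groth.Agent.Pic13.H952.FibrePt
import Groth.Agent.CohqB.PullTwist471
import Groth.Agent.Ega2.TensGen
import Groth.Agent.Fga.QG5
import Groth.Agent.CohqB.LocalQC

/-!
# Euler characteristics of the fibres and Hilbert functions at field points

`f : X ⟶ S`, `g₀ : X ⟶ P^n_ℤ` with `X ⟶ P^n_S` a closed immersion, `T` over `S`, `M` on `X_T`.

* `chiAt f g₀ T t M m` : `χ((M_t)(m))`, through the Betti numbers of the fibre;
* `fibre_eq` : the expression of the frozen statements is `chiAt`;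
* `field_eq` : for a field point of `T` with image `t`, `chi` of the pull back of `M` is `chiAt`;
* `chiAt_poly` : it is a polynomial in `m`;
* `fibHilb_iff` : a point `K` of `Quot` has fibrewise Hilbert function `Φ` iff all Euler characteristics are `Φ m`.
-/

set_option autoImplicit false
universe u

open CategoryTheory CategoryTheory.Limits AlgebraicGeometry Opposite TopologicalSpace

namespace K277.FibChi

open Groth.Agent Fga.QTDefs Fga.QT4b Fga.QT8 Fga.QT6a Fga.QT6c Fga.QA1 ChiHilb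

/-- The truncated Euler characteristic of the fibre, through Betti numbers. -/
noncomputable def eb {Z B : Scheme.{u}} (p : Z ⟶ B) (M : Z.Modules) (b : B) (n : ℕ) : ℤ :=
  (Finset.range (n + 1)).sum fun i => (-1 : ℤ) ^ i * (PerfAux.betti p M b i : ℤ)

lemma euler_eq_eb {k : Type u} [Field k] {Y Z B : Scheme.{u}} [Y.Over (Spec (CommRingCat.of k))] (p : Z ⟶ B)
    [QuasiCompact p] [QuasiSeparated p] (τ : Spec (CommRingCat.of k) ⟶ B) (j : Y ⟶ Z)
    (H : IsPullback j (Y ↘ Spec (CommRingCat.of k)) p τ) (b : B) (hb : b ∈ Set.range τ) (M : Z.Modules)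
    (hM : Coh.IsQCoh M) (n : ℕ) :
    FGA.eulerCharLE k Y ((Scheme.Modules.pullback j).obj M) n = eb p M b n :=
  Finset.sum_congr rfl fun i _ => by rw [Pic13.H952.FibrePt.finrank_eq_betti p τ j H b hb M hM i]

/-- pull back of a tensor product with an invertible module -/
noncomputable def pbT {Y Z : Scheme.{u}} (j : Y ⟶ Z) (M : Z.Modules) {N : Z.Modules} (hN : PicF.IsInvertible N) :
    (Scheme.Modules.pullback j).obj (CohB1.tensorMod M N) ≅
      CohB1.tensorMod ((Scheme.Modules.pullback j).obj M) ((Scheme.Modules.pullback j).obj N) :=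
  CohqB.PullTwist471.pullTensorIsoRight j (CohqB.PullTwist471.hasBases_of_isInvertible hN) M

variable {n : ℕ} {X S : Scheme.{u}} (f : X ⟶ S) (g₀ : X ⟶ PZ n)

/-- `O(m)` on `X_T`. -/
noncomputable def OT (T : Over S) (m : ℤ) : (PicF.XT f T).Modules :=
  (Scheme.Modules.pullback (gT f g₀ T)).obj (Twist.twistProjSpace n (ULift.{u} ℤ) m)

lemma isInvertible_OT (T : Over S) (m : ℤ) : PicF.IsInvertible (OT f g₀ T m) :=
  Fdesc.LocGen.isInvertible_pullback _ (FormalB.TwistGen.isInvertible_twistProjSpace n _ m)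

/-- `O(m)` pulled back. -/
noncomputable def OTiso {T T' : Over S} (g : T' ⟶ T) (m : ℤ) :
    (Scheme.Modules.pullback (PicF.XTmap f g)).obj (OT f g₀ T m) ≅ OT f g₀ T' m :=
  (Scheme.Modules.pullbackComp (PicF.XTmap f g) (gT f g₀ T)).app _ ≪≫
    (Scheme.Modules.pullbackCongr (XTmap_gT f g₀ g)).app _

/-- `ET` of `O(m)`. -/
noncomputable def ETO {O : X.Modules} {m : ℤ}
    (e : O ≅ (Scheme.Modules.pullback g₀).obj (Twist.twistProjSpace n (ULift.{u} ℤ) m)) (T : Over S) :
    FGA.ET f O T ≅ OT f g₀ T m :=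
  (Scheme.Modules.pullback (pullback.fst f T.hom)).mapIso e ≪≫
    (Scheme.Modules.pullbackComp (pullback.fst f T.hom) g₀).app _

/-- `χ((M_t)(m))`. -/
noncomputable def chiAt (T : Over S) (t : T.left) (M : (PicF.XT f T).Modules) (m : ℤ) : ℤ :=
  eb (PicF.XTproj f T) (CohB1.tensorMod M (OT f g₀ T m)) t n

lemma qc_XTproj [QuasiCompact f] (T : Over S) : QuasiCompact (PicF.XTproj f T) :=
  inferInstanceAs (QuasiCompact (pullback.snd f T.hom))

lemma qs_XTproj [QuasiSeparated f] (T : Over S) : QuasiSeparated (PicF.XTproj f T) :=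
  inferInstanceAs (QuasiSeparated (pullback.snd f T.hom))

lemma isQCoh_tw (T : Over S) {M : (PicF.XT f T).Modules} (hM : Coh.IsQCoh M) (m : ℤ) :
    Coh.IsQCoh (CohB1.tensorMod M (OT f g₀ T m)) :=
  Ega2.TensGen.isQCoh_tensor hM (isInvertible_OT f g₀ T m)

/-- the expression of the frozen statements -/
theorem fibre_eq [QuasiCompact f] [QuasiSeparated f] (T : Over S) (t : T.left) {M : (PicF.XT f T).Modules}
    (hM : Coh.IsQCoh M) {N : (PicF.XT f T).Modules} {m : ℤ} (e : N ≅ OT f g₀ T m) :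
    FGA.eulerCharLE (T.left.residueField t) (FGA.fibreAt f T t).left
      (CohB1.tensorMod (FGA.restrFibre f T t M) (FGA.restrFibre f T t N)) n = chiAt f g₀ T t M m := by
  have h1 := qc_XTproj f T
  have h2 := qs_XTproj f T
  let j := pullback.fst (PicF.XTproj f T) (T.left.fromSpecResidueField t)
  have e' : CohB1.tensorMod (FGA.restrFibre f T t M) (FGA.restrFibre f T t N) ≅
      (Scheme.Modules.pullback j).obj (CohB1.tensorMod M (OT f g₀ T m)) :=
    Ega2.Tens.mapTIso (Iso.refl _) ((Scheme.Modules.pullback j).mapIso e) ≪≫ (pbT j M (isInvertible_OT f g₀ T m)).symm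
  let _ : (pullback (PicF.XTproj f T) (T.left.fromSpecResidueField t)).Over
      (Spec (CommRingCat.of (T.left.residueField t))) := ⟨pullback.snd _ _⟩
  refine (Fga.EulerIso.eulerCharLE_congr (X := (FGA.fibreAt f T t).left) (T.left.residueField t) e' n).trans ?_
  exact euler_eq_eb (k := T.left.residueField t) (PicF.XTproj f T) (T.left.fromSpecResidueField t) j
    (IsPullback.of_hasPullback _ _) t ⟨IsLocalRing.closedPoint _, Scheme.fromSpecResidueField_apply _ _⟩ _
    (isQCoh_tw f g₀ T hM m) n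

/-- field points -/
theorem field_eq [QuasiCompact f] [QuasiSeparated f] (T : Over S) {M : (PicF.XT f T).Modules} (hM : Coh.IsQCoh M)
    {k : Type u} [Field k] (s : Spec (CommRingCat.of k) ⟶ S) (g : Over.mk s ⟶ T) (m : ℤ) :
    letI : (PicF.XT f (Over.mk s)).Over (Spec (CommRingCat.of k)) := ⟨prB f s⟩
    chi k (gT f g₀ (Over.mk s)) ((Scheme.Modules.pullback (PicF.XTmap f g)).obj M) m =
      chiAt f g₀ T (g.left (IsLocalRing.closedPoint k)) M m := by
  let _ : (PicF.XT f (Over.mk s)).Over (Spec (CommRingCat.of k)) := ⟨prB f s⟩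
  have h1 := qc_XTproj f T
  have h2 := qs_XTproj f T
  have e' : twg (gT f g₀ (Over.mk s)) ((Scheme.Modules.pullback (PicF.XTmap f g)).obj M) m ≅
      (Scheme.Modules.pullback (PicF.XTmap f g)).obj (CohB1.tensorMod M (OT f g₀ T m)) :=
    Ega2.Tens.mapTIso (Iso.refl _) (OTiso f g₀ g m).symm ≪≫ (pbT (PicF.XTmap f g) M (isInvertible_OT f g₀ T m)).symm
  change chi k (gT f g₀ (Over.mk s)) ((Scheme.Modules.pullback (PicF.XTmap f g)).obj M) m = _
  rw [chi, Fga.EulerIso.eulerCharLE_congr k e' n]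
  exact euler_eq_eb (k := k) (PicF.XTproj f T) g.left (PicF.XTmap f g)
    (Picfga.HilbPull.isPullback_XTmap f g) _ ⟨IsLocalRing.closedPoint _, rfl⟩ _
    (isQCoh_tw f g₀ T hM m) n

variable {f g₀}

/-- It is a polynomial. -/
theorem chiAt_poly [IsClosedImmersion (toPS g₀ f)] [QuasiCompact f] [QuasiSeparated f] (T : Over S) (t : T.left)
    {M : (PicF.XT f T).Modules} (hM : Coh.IsCoh M) :
    ∃ P : Polynomial ℚ, ∀ m : ℤ, (chiAt f g₀ T t M m : ℚ) = P.eval (m : ℚ) := by
  let s : Spec (CommRingCat.of (T.left.residueField t)) ⟶ S := T.left.fromSpecResidueField t ≫ T.hom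
  let g : Over.mk s ⟶ T := Over.homMk (T.left.fromSpecResidueField t) rfl
  let _ : (PicF.XT f (Over.mk s)).Over (Spec (CommRingCat.of (T.left.residueField t))) := ⟨prB f s⟩
  have hc : IsClosedImmersion (toPA (gT f g₀ (Over.mk s))
      (PicF.XT f (Over.mk s) ↘ Spec (CommRingCat.of (T.left.residueField t)))) :=
    isClosedImmersion_toPA f g₀ (B := T.left.residueField t) s
  have hM' : Coh.IsCoh ((Scheme.Modules.pullback (PicF.XTmap f g)).obj M) :=
    FormalA.PullbackQC.isCoh_pullback _ _ hM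
  obtain ⟨P, hP⟩ := exists_poly (T.left.residueField t) (gT f g₀ (Over.mk s)) hM'
  refine ⟨P, fun m => ?_⟩
  have h1 := field_eq f g₀ T hM.1 s g m
  have h2 : g.left (IsLocalRing.closedPoint (T.left.residueField t)) = t :=
    Scheme.fromSpecResidueField_apply _ _
  rw [h2] at h1
  rw [← hP m, ← h1]

/-- The Hilbert function at a field point of a point of `Quot`. -/
theorem qHilb_pull_iff [IsClosedImmersion (toPS g₀ f)] [QuasiCompact f] [QuasiSeparated f] {F : X.Modules}
    {c : ℕ} {Φ : ℤ → ℤ} (hΦ : Num c Φ) (T : Over S) (K : FGA.QuotSet f F T) {k : Type u} [Field k]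
    (s : Spec (CommRingCat.of k) ⟶ S) (g : Over.mk s ⟶ T) :
    QHilb f g₀ F Φ k s (FGA.quotPull f F g K.1) ↔
      ∀ m : ℤ, chiAt f g₀ T (g.left (IsLocalRing.closedPoint k)) (cokernel K.1.arrow) m = Φ m := by
  let _ : (PicF.XT f (Over.mk s)).Over (Spec (CommRingCat.of k)) := ⟨prB f s⟩
  have hc : IsClosedImmersion (toPA (gT f g₀ (Over.mk s))
      (PicF.XT f (Over.mk s) ↘ Spec (CommRingCat.of k))) :=
    isClosedImmersion_toPA f g₀ (B := k) s
  let e := Fga.QT6b.cokernelPullIso (PicF.XTmap f g) (FGA.ETiso f F g) K.1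
  have hM' : Coh.IsCoh ((Scheme.Modules.pullback (PicF.XTmap f g)).obj (cokernel K.1.arrow)) :=
    FormalA.PullbackQC.isCoh_pullback _ _ K.2.1
  have hM : Coh.IsCoh (cokernel (FGA.quotPull f F g K.1).arrow) :=
    Groth.Agent.CohqB.LocalQC.isCoh_of_iso e.symm hM'
  have h1 := hasHilb_iff_chi k (gT f g₀ (Over.mk s)) hM hΦ
  refine h1.trans (forall_congr' fun m => ?_)
  have h2 : chi k (gT f g₀ (Over.mk s)) (cokernel (FGA.quotPull f F g K.1).arrow) m =
      chi k (gT f g₀ (Over.mk s)) ((Scheme.Modules.pullback (PicF.XTmap f g)).obj (cokernel K.1.arrow)) m :=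
    Fga.EulerIso.eulerCharLE_congr k (Ega2.Tens.mapTIso e (Iso.refl _)) n
  rw [h2, field_eq f g₀ T K.2.1.1 s g m]

/-- **Points of `Quot`.** -/
theorem fibHilb_iff [IsClosedImmersion (toPS g₀ f)] [QuasiCompact f] [QuasiSeparated f] {F : X.Modules}
    {c : ℕ} {Φ : ℤ → ℤ} (hΦ : Num c Φ) (T : Over S) (K : FGA.QuotSet f F T) :
    FibHilb f g₀ F Φ T K.1 ↔ ∀ (t : T.left) (m : ℤ), chiAt f g₀ T t (cokernel K.1.arrow) m = Φ m := by
  constructor
  · intro h t
    let s : Spec (CommRingCat.of (T.left.residueField t)) ⟶ S := T.left.fromSpecResidueField t ≫ T.hom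
    let g : Over.mk s ⟶ T := Over.homMk (T.left.fromSpecResidueField t) rfl
    have h1 := (qHilb_pull_iff hΦ T K (k := T.left.residueField t) s g).1 (h _ s g)
    have h2 : g.left (IsLocalRing.closedPoint (T.left.residueField t)) = t :=
      Scheme.fromSpecResidueField_apply _ _
    rwa [h2] at h1
  · intro h k _ s g
    exact (qHilb_pull_iff hΦ T K s g).2 fun m => h _ m

end K277.FibChi
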