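import Groth.Agent.FGA.K277.GlobRep
import Groth.Agent.FGA.K277.FibChi

/-!
# Quotients with a fixed Hilbert polynomial, in terms of Euler characteristics

`main` : `S` locally Noetherian, `X` closed in `P^n_S`, `F` coherent with a global generating system, `Φ` a
polynomial: the functor of coherent flat quotients with `χ((F_t)(m)) = Φ(m)` for all `t`, `m` is represented by a
closed subscheme of some `P^r_S`.
-/

set_option autoImplicit false
universe u

open CategoryTheory CategoryTheory.Limits AlgebraicGeometry Opposite TopologicalSpace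

namespace K277.PartMain

open Groth.Agent Groth.Agent.Fga Groth.Agent.Picfga.OverRep NoethRep QA1 QT9Part QTDefs QT6a QT6c QT8 QG5 GlobRep
  ChiHilb FibChi

/-- The universal property of a part, in terms of the functor. -/
theorem nrep_part {S : Scheme.{u}} {G : (Over S)ᵒᵖ ⥤ Type*} {P : ∀ T : Over S, G.obj (op T) → Prop}
    {hP : ∀ {T T' : Over S} (g : T' ⟶ T) (x : G.obj (op T)), P T x → P T' (G.map g.op x)} {H : Over S}
    {ξ : {x : G.obj (op H) // P H x}} (h1 : NRep (part G P hP) H ξ) (T : Over S) [IsLocallyNoetherian T.left]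
    (x : G.obj (op T)) (hx : P T x) : ∃! g : T ⟶ H, G.map g.op ξ.1 = x := by
  obtain ⟨g, hg, hg'⟩ := h1.univ T (⟨x, hx⟩ : {x : G.obj (op T) // P T x})
  exact ⟨g, congrArg Subtype.val hg, fun k hk => hg' k (Subtype.ext hk)⟩

/-- Equality of points of the functor `quot`. -/
lemma quot_iff {X S : Scheme.{u}} {f : X ⟶ S} {F : X.Modules} {T T' : Over S} (g : T' ⟶ T)
    (x : FGA.QuotSet f F T) (y : FGA.QuotSet f F T') :
    (QuotFun.quot f F).map g.op x = y ↔ FGA.quotPull f F g x.1 = y.1 :=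
  ⟨fun h => congrArg Subtype.val h, fun h => Subtype.ext h⟩

variable {n : ℕ} {X S : Scheme.{u}} {f : X ⟶ S} {g₀ : X ⟶ PZ n} {F : X.Modules}
  [IsClosedImmersion (toPS g₀ f)] [QuasiCompact f] [QuasiSeparated f]

/-- The Hilbert polynomials which occur take integral values and have degree at most `n`. -/
theorem exists_num (hF : Coh.IsCoh F) {T : Over S} [IsLocallyNoetherian T.left] (t : T.left)
    (K : FGA.QuotSet f F T) {Φ : Polynomial ℚ}
    (h : ∀ m : ℤ, (chiAt f g₀ T t (cokernel K.1.arrow) m : ℚ) = Φ.eval (m : ℚ)) :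
    ∃ Φ' : ℤ → ℤ, Num (n + 1) Φ' ∧ ∀ m : ℤ, (Φ' m : ℚ) = Φ.eval (m : ℚ) := by
  let s : Spec (CommRingCat.of (T.left.residueField t)) ⟶ S := T.left.fromSpecResidueField t ≫ T.hom
  let g : Over.mk s ⟶ T := Over.homMk (T.left.fromSpecResidueField t) rfl
  obtain ⟨a, m, E, hE⟩ := exists_genSys f g₀ hF (B := T.left.residueField t) s
  have hy : Coh.IsQCoh (cokernel (FGA.quotPull f F g K.1).arrow) :=
    (show FGA.QuotSet f F (Over.mk s) from (QuotFun.quot f F).map g.op K).2.1.1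
  obtain ⟨Φ', hΦ', h'⟩ := exists_qHilb hF.1 hE hy
  refine ⟨Φ', hΦ', fun m => ?_⟩
  have h1 := (qHilb_pull_iff hΦ' T K (k := T.left.residueField t) s g).1 h' m
  have h2 : g.left (IsLocalRing.closedPoint (T.left.residueField t)) = t :=
    Scheme.fromSpecResidueField_apply _ _
  rw [h2] at h1
  rw [← h m, h1]

variable {ι : Type} [Fintype ι] {a : ℕ}
  {E : GenSys (gT f g₀ (Over.mk (𝟙 S))) (FGA.ET f F (Over.mk (𝟙 S))) ι a}

/-- **Quotients with a fixed Hilbert polynomial.** -/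
theorem main [IsLocallyNoetherian S] (hF : Coh.IsCoh F) (hE : GlobGen f g₀ E) (Φ : Polynomial ℚ) :
    ∃ (Q : Over S) (K : FGA.QuotSet f F Q), IsLocallyNoetherian Q.left ∧
      (∀ (t : Q.left) (m : ℤ), (chiAt f g₀ Q t (cokernel K.1.arrow) m : ℚ) = Φ.eval (m : ℚ)) ∧
      (∀ (T : Over S) [IsLocallyNoetherian T.left] (K' : FGA.QuotSet f F T),
        (∀ (t : T.left) (m : ℤ), (chiAt f g₀ T t (cokernel K'.1.arrow) m : ℚ) = Φ.eval (m : ℚ)) →
        ∃! g : T ⟶ Q, FGA.quotPull f F g K.1 = K'.1) ∧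
      ∃ (r : ℕ) (c : Q.left ⟶ CohB1.ProjSpaceOver r S),
        IsClosedImmersion c ∧ c ≫ CohB1.ProjSpaceOver.toBase r S = Q.hom := by
  by_cases hcase : ∃ Φ' : ℤ → ℤ, Num (n + 1) Φ' ∧ ∀ m : ℤ, (Φ' m : ℚ) = Φ.eval (m : ℚ)
  · obtain ⟨Φ', hΦ', hΦ⟩ := hcase
    obtain ⟨H, ξ, N, c, h1, h2, h3⟩ := exists_part hF hE hΦ'
    let ξ' : {x : (QuotFun.quot f F).obj (op H) // Fib (QQ f g₀ F Φ') H x} := ξ
    let K : FGA.QuotSet f F H := ξ'.1
    have hK : FibHilb f g₀ F Φ' H K.1 := ξ'.2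
    refine ⟨H, K, h1.noeth, fun t m => ?_, fun T _ K' hK' => ?_, N, c, h2, h3⟩
    · rw [(fibHilb_iff hΦ' H K).1 hK t m, hΦ]
    · have h4 : FibHilb f g₀ F Φ' T K'.1 := (fibHilb_iff hΦ' T K').2 fun t m => by
        have := hK' t m
        rw [← hΦ] at this
        exact_mod_cast this
      obtain ⟨g, hg, hg'⟩ := nrep_part h1 T K' h4
      exact ⟨g, (quot_iff g K K').1 hg, fun k hk => hg' k ((quot_iff k K K').2 hk)⟩
  · let Q : Over S := Over.mk (isInitialOfIsEmpty.to S : (∅ : Scheme.{u}) ⟶ S)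
    have hQe : IsEmpty Q.left := inferInstanceAs (IsEmpty (∅ : Scheme.{u}))
    obtain ⟨K, -, -⟩ := QuotFun.isZarSheaf_quot f F Q
      { ι := PEmpty
        V := fun i => i.elim
        j := fun i => i.elim
        isOpen := fun i => i.elim
        covers := fun t => hQe.elim t } (fun i => i.elim) (fun i => i.elim)
    refine ⟨Q, K, inferInstance, fun t => hQe.elim t, fun T _ K' hK' => ?_, 0,
      isInitialOfIsEmpty.to _, inferInstance, isInitialOfIsEmpty.hom_ext _ _⟩
    have hT : IsEmpty T.left := by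
      refine ⟨fun t => hcase ?_⟩
      exact exists_num hF t K' (hK' t)
    refine ⟨Over.homMk (isInitialOfIsEmpty.to _) (isInitialOfIsEmpty.hom_ext _ _), ?_, fun k _ => ?_⟩
    · exact congrArg Subtype.val (NoethRep.subsingleton_of_isEmpty (QuotFun.isZarSheaf_quot f F) T hT
        ((QuotFun.quot f F).map (Over.homMk (isInitialOfIsEmpty.to _) (isInitialOfIsEmpty.hom_ext _ _) : T ⟶ Q).op K) K')
    · apply Over.OverMorphism.ext
      exact isInitialOfIsEmpty.hom_ext _ _

end K277.PartMain
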