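import Groth.Agent.S1616
import Groth.Agent.Dix.ProjProper
import Mathlib.AlgebraicGeometry.Limits
import Mathlib.AlgebraicGeometry.Noetherian
import Mathlib.AlgebraicGeometry.PullbackCarrier
import Mathlib.AlgebraicGeometry.Morphisms.ClosedImmersion
import Mathlib.AlgebraicGeometry.Morphisms.FiniteType

/-!
# Disjoint unions of projective schemes over a base

`DisjProj H` : `H` is a coproduct of schemes closed in projective spaces over `S`.
Stable under closed subschemes and products.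
-/

set_option autoImplicit false
universe u

open CategoryTheory CategoryTheory.Limits AlgebraicGeometry CohB1

namespace K277.DisjProj

variable {S : Scheme.{u}}

/-- `H` is a coproduct of closed subschemes of projective spaces over `S`. -/
def IsDP (H : Over S) : Prop :=
  ∃ (ι : Type u) (P : ι → Scheme.{u}) (e : (∐ P) ≅ H.left) (m : ι → ℕ)
    (c : ∀ a, P a ⟶ ProjSpaceOver (m a) S),
    ∀ a, IsClosedImmersion (c a) ∧
      c a ≫ ProjSpaceOver.toBase (m a) S = Limits.Sigma.ι P a ≫ e.hom ≫ H.hom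

/-- The same with a family of open immersions. -/
structure Fam (H : Over S) where
  ι : Type u
  P : ι → Scheme.{u}
  f : ∀ a, P a ⟶ H.left
  op : ∀ a, IsOpenImmersion (f a)
  cov : ∀ x : H.left, ∃ a, x ∈ Set.range (f a)
  disj : ∀ a b (x : P a) (y : P b), f a x = f b y → a = b
  m : ι → ℕ
  c : ∀ a, P a ⟶ ProjSpaceOver (m a) S
  cl : ∀ a, IsClosedImmersion (c a)
  w : ∀ a, c a ≫ ProjSpaceOver.toBase (m a) S = f a ≫ H.hom

attribute [instance] Fam.op Fam.cl

theorem Fam.isDP {H : Over S} (F : Fam H) : IsDP H := by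
  obtain ⟨hI⟩ := nonempty_isColimit_cofanMk_of F.f (by
    rw [eq_top_iff]
    intro x _
    obtain ⟨a, ha⟩ := F.cov x
    exact TopologicalSpace.Opens.mem_iSup.2 ⟨a, ha⟩) (by
    intro a b hab
    rw [Function.onFun, ← TopologicalSpace.Opens.coe_disjoint, Set.disjoint_left]
    rintro _ ⟨x, rfl⟩ ⟨y, hy⟩
    exact hab (F.disj a b x y hy.symm))
  let e : (∐ F.P) ≅ H.left := IsColimit.coconePointUniqueUpToIso (coproductIsCoproduct F.P) hI
  have he : ∀ a, Sigma.ι F.P a ≫ e.hom = F.f a := fun a =>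
    IsColimit.comp_coconePointUniqueUpToIso_hom (coproductIsCoproduct F.P) hI ⟨a⟩
  refine ⟨F.ι, F.P, e, F.m, F.c, fun a => ⟨F.cl a, ?_⟩⟩
  rw [F.w a, ← he a, Category.assoc]

theorem IsDP.exists_fam {H : Over S} (h : IsDP H) : Nonempty (Fam H) := by
  obtain ⟨ι, P, e, m, c, hc⟩ := h
  refine ⟨⟨ι, P, fun a => Sigma.ι P a ≫ e.hom, fun a => inferInstance, ?_, ?_, m, c, fun a => (hc a).1, ?_⟩⟩
  · intro x
    obtain ⟨i, y, hy⟩ : ∃ (i : ι) (y : P i), Sigma.ι P i y = e.inv x := by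
      obtain ⟨y, hy⟩ := (sigmaOpenCover P).covers (e.inv x)
      exact ⟨_, y, hy⟩
    refine ⟨i, y, ?_⟩
    rw [Scheme.Hom.comp_apply, hy, ← Scheme.Hom.comp_apply, e.inv_hom_id]
    rfl
  · intro a b x y hxy
    by_contra hab
    rw [Scheme.Hom.comp_apply, Scheme.Hom.comp_apply] at hxy
    have h1 : Sigma.ι P a x = Sigma.ι P b y := e.hom.isOpenEmbedding.injective hxy
    have h2 := disjoint_opensRange_sigmaι P a b hab
    rw [← TopologicalSpace.Opens.coe_disjoint, Set.disjoint_left] at h2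
    exact h2 ⟨x, rfl⟩ ⟨y, h1.symm⟩
  · intro a
    rw [(hc a).2, Category.assoc]

/-- Closed subschemes. -/
theorem IsDP.closed {H H' : Over S} (h : IsDP H) (j : H' ⟶ H) [IsClosedImmersion j.left] : IsDP H' := by
  obtain ⟨F⟩ := h.exists_fam
  refine Fam.isDP (H := H') ⟨F.ι, fun a => pullback (F.f a) j.left, fun a => pullback.snd _ _, fun a => inferInstance,
    ?_, ?_, F.m, fun a => pullback.fst (F.f a) j.left ≫ F.c a, fun a => inferInstance, ?_⟩
  · intro x
    obtain ⟨a, ha⟩ := F.cov (j.left x)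
    refine ⟨a, ?_⟩
    rw [Scheme.Pullback.range_snd]
    exact ha
  · intro a b x y hxy
    refine F.disj a b (pullback.fst (F.f a) j.left x) (pullback.fst (F.f b) j.left y) ?_
    rw [← Scheme.Hom.comp_apply, ← Scheme.Hom.comp_apply, pullback.condition, pullback.condition,
      Scheme.Hom.comp_apply, Scheme.Hom.comp_apply]
    exact congrArg _ hxy
  · intro a
    rw [Category.assoc, F.w a, pullback.condition_assoc, Over.w j]

/-- The product in `Over S`. -/
noncomputable def prod (H₁ H₂ : Over S) : Over S := Over.mk (pullback.fst H₁.hom H₂.hom ≫ H₁.hom)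

noncomputable def fst (H₁ H₂ : Over S) : prod H₁ H₂ ⟶ H₁ := Over.homMk (pullback.fst H₁.hom H₂.hom) rfl

noncomputable def snd (H₁ H₂ : Over S) : prod H₁ H₂ ⟶ H₂ :=
  Over.homMk (pullback.snd H₁.hom H₂.hom) pullback.condition.symm

noncomputable def lift {H₁ H₂ T : Over S} (a : T ⟶ H₁) (b : T ⟶ H₂) : T ⟶ prod H₁ H₂ :=
  Over.homMk (pullback.lift a.left b.left ((Over.w a).trans (Over.w b).symm)) (by
    change pullback.lift _ _ _ ≫ pullback.fst H₁.hom H₂.hom ≫ H₁.hom = T.hom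
    rw [pullback.lift_fst_assoc, Over.w a])

@[simp] lemma lift_fst {H₁ H₂ T : Over S} (a : T ⟶ H₁) (b : T ⟶ H₂) : lift a b ≫ fst H₁ H₂ = a := by
  ext
  exact pullback.lift_fst _ _ _

@[simp] lemma lift_snd {H₁ H₂ T : Over S} (a : T ⟶ H₁) (b : T ⟶ H₂) : lift a b ≫ snd H₁ H₂ = b := by
  ext
  exact pullback.lift_snd _ _ _

lemma prod_hom_ext {H₁ H₂ T : Over S} {a b : T ⟶ prod H₁ H₂} (h1 : a ≫ fst H₁ H₂ = b ≫ fst H₁ H₂)
    (h2 : a ≫ snd H₁ H₂ = b ≫ snd H₁ H₂) : a = b := by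
  ext
  exact pullback.hom_ext (congrArg (fun z => CommaMorphism.left z) h1) (congrArg (fun z => CommaMorphism.left z) h2)

/-- Products. -/
theorem IsDP.prod {H₁ H₂ : Over S} (h₁ : IsDP H₁) (h₂ : IsDP H₂) : IsDP (prod H₁ H₂) := by
  obtain ⟨F⟩ := h₁.exists_fam
  obtain ⟨G⟩ := h₂.exists_fam
  choose φ hφ hφ' using fun (ab : F.ι × G.ι) => Groth.Agent.S1616.result S (F.m ab.1) (G.m ab.2)
  let f : ∀ ab : F.ι × G.ι, pullback (F.f ab.1 ≫ H₁.hom) (G.f ab.2 ≫ H₂.hom) ⟶ pullback H₁.hom H₂.hom := fun ab =>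
    pullback.map _ _ _ _ (F.f ab.1) (G.f ab.2) (𝟙 S) (by simp) (by simp)
  have hf : ∀ ab, IsOpenImmersion (f ab) := fun ab =>
    MorphismProperty.pullbackMap (P := @IsOpenImmersion) (F.op ab.1) (G.op ab.2) rfl rfl
  have hr : ∀ ab, Set.range (f ab) = pullback.fst H₁.hom H₂.hom ⁻¹' Set.range (F.f ab.1) ∩
      pullback.snd H₁.hom H₂.hom ⁻¹' Set.range (G.f ab.2) := fun ab => Scheme.Pullback.range_map _ _ _ _ _ _ _ _ _
  let c : ∀ ab : F.ι × G.ι, pullback (F.f ab.1 ≫ H₁.hom) (G.f ab.2 ≫ H₂.hom) ⟶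
      pullback (ProjSpaceOver.toBase (F.m ab.1) S) (ProjSpaceOver.toBase (G.m ab.2) S) := fun ab =>
    pullback.map _ _ _ _ (F.c ab.1) (G.c ab.2) (𝟙 S) (by simp [F.w ab.1]) (by simp [G.w ab.2])
  have hst : MorphismProperty.IsStableUnderComposition (@IsClosedImmersion : MorphismProperty Scheme.{u}) :=
    MorphismProperty.IsMultiplicative.toIsStableUnderComposition
  have hc : ∀ ab, IsClosedImmersion (c ab) := fun ab =>
    MorphismProperty.pullbackMap (P := @IsClosedImmersion) (F.cl ab.1) (G.cl ab.2) (F.w ab.1).symm (G.w ab.2).symm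
  refine Fam.isDP (H := K277.DisjProj.prod H₁ H₂) ⟨F.ι × G.ι, _, f, hf, ?_, ?_, _, fun ab => c ab ≫ φ ab,
    fun ab => ?_, ?_⟩
  · intro x
    obtain ⟨a, ha⟩ := F.cov (pullback.fst H₁.hom H₂.hom x)
    obtain ⟨b, hb⟩ := G.cov (pullback.snd H₁.hom H₂.hom x)
    exact ⟨(a, b), (Set.ext_iff.1 (hr (a, b)) x).2 ⟨ha, hb⟩⟩
  · intro ab ab' x y hxy
    have h1 : f ab x ∈ Set.range (f ab) := ⟨x, rfl⟩
    have h2 : f ab x ∈ Set.range (f ab') := ⟨y, hxy.symm⟩
    obtain ⟨⟨x₁, hx₁⟩, ⟨x₂, hx₂⟩⟩ := (Set.ext_iff.1 (hr ab) _).1 h1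
    obtain ⟨⟨y₁, hy₁⟩, ⟨y₂, hy₂⟩⟩ := (Set.ext_iff.1 (hr ab') _).1 h2
    exact Prod.ext (F.disj _ _ x₁ y₁ (hx₁.trans hy₁.symm)) (G.disj _ _ x₂ y₂ (hx₂.trans hy₂.symm))
  · have := hc ab
    have := hφ ab
    infer_instance
  · intro ab
    rw [Category.assoc, hφ' ab]
    change pullback.map _ _ _ _ _ _ _ _ _ ≫ pullback.fst _ _ ≫ _ = pullback.map _ _ _ _ _ _ _ _ _ ≫ pullback.fst _ _ ≫ _
    rw [pullback.lift_fst_assoc, pullback.lift_fst_assoc, Category.assoc, Category.assoc, F.w]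

/-- Locally Noetherian base. -/
theorem IsDP.isLocallyNoetherian [IsLocallyNoetherian S] {H : Over S} (h : IsDP H) : IsLocallyNoetherian H.left := by
  obtain ⟨F⟩ := h.exists_fam
  have h1 : LocallyOfFiniteType H.hom := by
    let 𝒰 : H.left.OpenCover :=
      { I₀ := F.ι
        X := F.P
        f := F.f
        mem₀ := by
          rw [Scheme.presieve₀_mem_precoverage_iff]
          exact ⟨fun x => by
            obtain ⟨a, y, hy⟩ := F.cov x
            exact ⟨a, y, hy⟩, fun a => F.op a⟩ }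
    have hz : IsZariskiLocalAtSource (@LocallyOfFiniteType : MorphismProperty Scheme.{u}) :=
      HasRingHomProperty.instIsZariskiLocalAtSource (Q := RingHom.FiniteType)
    refine IsZariskiLocalAtSource.of_openCover (P := @LocallyOfFiniteType) 𝒰 fun a => ?_
    change LocallyOfFiniteType (F.f a ≫ H.hom)
    rw [← F.w a]
    infer_instance
  exact LocallyOfFiniteType.isLocallyNoetherian H.hom

end K277.DisjProj
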