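import Groth.Agent.Fga.QT12
import Groth.Agent.Fga.QT10
import Groth.Agent.Fga.ExistsRepQ795
import Groth.Agent.FGA.K277.DisjProj

/-!
# Quot functors with a global generating system: closed immersions in projective space

`f : X ⟶ S`, `g₀ : X ⟶ P^n_ℤ` with `X ⟶ P^n_S` a closed immersion, `F` coherent on `X`, and a generating system
`E` of `F` over the whole of `S` (`GlobGen`: generating after pull back to every Noetherian affine scheme over `S`).
Then the part of the Quot functor with Hilbert polynomial `Φ` is represented by a closed subscheme of some `P^N_S`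
(`exists_part`), and the Quot functor by a disjoint union of such (`exists_quot`).
-/

set_option autoImplicit false
universe u v

open CategoryTheory CategoryTheory.Limits AlgebraicGeometry MvPolynomial Opposite

namespace K277.GlobRep

open Groth.Agent Groth.Agent.Fga Groth.Agent.Picfga.OverRep NoethRep QA0 QA1 HilbAsm1 QT9Part QTDefs QTPull QT6a QT6c QT6d QT8 QG5

variable {n : ℕ} {X S : Scheme.{u}} (f : X ⟶ S) (g₀ : X ⟶ PZ n) {F : X.Modules} {ι : Type} {a : ℕ}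

/-- The structure map, as a morphism to the base over the base. -/
noncomputable def hs {T : Scheme.{u}} (s : T ⟶ S) : Over.mk s ⟶ Over.mk (𝟙 S) := Over.homMk s (Category.comp_id _)

lemma comp_hs {T T' : Scheme.{u}} {s : T ⟶ S} {s' : T' ⟶ S} (h : Over.mk s' ⟶ Over.mk s) : h ≫ hs s = hs s' := by
  apply Over.OverMorphism.ext
  exact Over.w h

variable (E : GenSys (gT f g₀ (Over.mk (𝟙 S))) (FGA.ET f F (Over.mk (𝟙 S))) ι a)

/-- The pulled back generating system. -/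
noncomputable def Es {B : Type u} [CommRing B] (s : Spec (CommRingCat.of B) ⟶ S) :
    GenSys (gT f g₀ (Over.mk s)) (FGA.ET f F (Over.mk s)) ι a :=
  pullT f g₀ F E (hs s)

/-- The system generates over all Noetherian affine schemes. -/
def GlobGen : Prop :=
  ∀ (B : Type u) [CommRing B] [IsNoetherianRing B] (s : Spec (CommRingCat.of B) ⟶ S), (Es f g₀ E s).Gen

lemma Es_pull {B C : Type u} [CommRing B] [CommRing C] {s : Spec (CommRingCat.of B) ⟶ S}
    {s' : Spec (CommRingCat.of C) ⟶ S} (h : Over.mk s' ⟶ Over.mk s) :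
    pullT f g₀ F (Es f g₀ E s) h = Es f g₀ E s' := by
  rw [Es, pullT_pullT, Es, comp_hs]

variable [IsClosedImmersion (toPS g₀ f)] [Fintype ι] {f g₀ E}
variable {B C : Type u} [CommRing B] [CommRing C] [IsNoetherianRing B]

lemma gr_Es_bot (hF : Coh.IsCoh F) (hE : GlobGen f g₀ E) (φ : B →+* C) (s : Spec (CommRingCat.of B) ⟶ S) :
    gr (t := Spec.map (CommRingCat.ofHom φ) ≫ s) (Es f g₀ E (Spec.map (CommRingCat.ofHom φ) ≫ s)) ⊥ =
      bcSat φ (gr (t := s) (Es f g₀ E s) ⊥) := by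
  have h1 := gr_bot_pullT hF.1 (hE B s) φ
      (t' := Spec.map (CommRingCat.ofHom φ) ≫ s)
      (Over.homMk (Spec.map (CommRingCat.ofHom φ)) rfl) rfl
  rw [Es_pull f g₀ E] at h1
  exact h1

lemma gr_Es (hF : Coh.IsCoh F) (hE : GlobGen f g₀ E) (φ : B →+* C) (s : Spec (CommRingCat.of B) ⟶ S)
    (s' : Spec (CommRingCat.of C) ⟶ S) (h : Over.mk s' ⟶ Over.mk s)
    (hh : h.left = Spec.map (CommRingCat.ofHom φ)) (x : FGA.QuotSet f F (Over.mk s)) :
    gr (t := s') (Es f g₀ E s') (FGA.quotPull f F h x.1) =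
      bcSat φ (gr (t := s) (Es f g₀ E s) x.1) := by
  rw [← Es_pull f g₀ E h]
  exact gr_quotPull (t := s) (t' := s') hF.1 (hE B s) φ h hh x.2.1.1

omit [IsClosedImmersion (toPS g₀ f)] [Fintype ι] [IsNoetherianRing B] in
lemma quot_map_val {s : Spec (CommRingCat.of B) ⟶ S} {s' : Spec (CommRingCat.of C) ⟶ S}
    (g : Over.mk s' ⟶ Over.mk s) (x : FGA.QuotSet f F (Over.mk s)) :
    (show FGA.QuotSet f F (Over.mk s') from (QuotFun.quot f F).map g.op x).1 = FGA.quotPull f F g x.1 := rfl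

/-- **The dictionary.** -/
noncomputable def dictG (hF : Coh.IsCoh F) (hE : GlobGen f g₀ E) : QT9Part.Dict (QuotFun.quot f F) n where
  ι := ι
  N B _ s := gr (t := s) (Es f g₀ E s) ⊥
  hN B _ s := (QT5.grSub_isHom_isSat (gT f g₀ (Over.mk s)) (prB f s) (Es f g₀ E s)
    (QT5.isQCoh_cokernel_bot (isQCoh_ET f hF.1 _))).1
  hN' B C _ _ φ s := gr_Es_bot hF hE φ.hom s
  L B _ s x := gr (t := s) (Es f g₀ E s) (show FGA.QuotSet f F (Over.mk s) from x).1
  inj B _ s x y h := gr_injective (t := s) hF (hE B s) h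
  isQuotPt B _ s x := isQuotPt_gr (t := s) hF.1 (hE B s)
    (show FGA.QuotSet f F (Over.mk s) from x).2.1.1 (show FGA.QuotSet f F (Over.mk s) from x).2.2
  le B _ s x := (dict (t := s) hF (hE B s) x).2.2
  surj B _ s K h1 h2 := by
    obtain ⟨x, hx⟩ := (dict (t := s) hF (hE B s)).surjective ⟨K, h1, h2⟩
    exact ⟨x, congrArg Subtype.val hx⟩
  nat B C _ _ φ s s' g hg x :=
    (congrArg (gr (t := s') (Es f g₀ E s')) (quot_map_val (B := B) (C := C) (f := f) (F := F) (s := s) (s' := s') g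
      (show FGA.QuotSet f F (Over.mk s) from x))).trans
    (gr_Es (B := B) (C := C) hF hE φ.hom s s' g hg (show FGA.QuotSet f F (Over.mk s) from x))

lemma compat (hF : Coh.IsCoh F) (hE : GlobGen f g₀ E) (Φ : ℤ → ℤ) :
    (dictG hF hE).Compat (QQ f g₀ F Φ) (fun d => Φ (d + a)) := by
  intro k _ s y
  exact qHilb_iff (f := f) (g₀ := g₀) hF.1 (s := s) (E := Es f g₀ E s) (hE k s)
    (show FGA.QuotSet f F (Over.mk s) from y).2.1.1 Φ

/-- From a dictionary, a closed subscheme of projective space. -/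
theorem _root_.K277.GlobRep.exists_nrep_of_dict {G : (Over S)ᵒᵖ ⥤ Type v} (𝒟 : QT9Part.Dict G n) [IsLocallyNoetherian S]
    (hG : IsZarSheaf G) {Φ : ℤ → ℤ} (hΦ : Num (n + 1) Φ)
    {Q : ∀ (K : Type u) [Field K] (s : Spec (.of K) ⟶ S), G.obj (op (Over.mk s)) → Prop}
    (hQ : 𝒟.Compat Q Φ) :
    ∃ (H : Over S) (ξ : (part G (Fib Q) Fib.pull).obj (op H)) (N : ℕ) (c : H.left ⟶ CohB1.ProjSpaceOver N S),
      NRep (part G (Fib Q) Fib.pull) H ξ ∧ IsClosedImmersion c ∧ c ≫ CohB1.ProjSpaceOver.toBase N S = H.hom := by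
  have hΦ' : Num (Fintype.card (Fin (n + 1))) Φ := by rwa [Fintype.card_fin]
  obtain ⟨P, r, N, c, hc⟩ := ExistsRepQ795.exists_repQ.{u} (Fin (n + 1)) 𝒟.ι Φ hΦ'
  let D : QH.NData (Fin (n + 1)) 𝒟.ι S := ⟨𝒟.N, 𝒟.hN, by
    intro B C _ _ φ s L h1 h2
    rw [𝒟.hN' B C φ s, bcSat]
    constructor
    · intro h
      have := sat_mono h
      rwa [h2.sat_eq] at this
    · intro h
      exact (le_sat _).trans h⟩
  obtain ⟨H, ξ, c', h1, h2, h3⟩ := QH.exists_nrep r D hΦ' c (part G (Fib Q) Fib.pull)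
    (isZarSheaf_part hG _ Fib.pull (fun T 𝒱 x h => Fib.loc T 𝒱 x h))
    (fun B _ s => Equiv.ofBijective
      (fun x : {x : G.obj (op (Over.mk s)) // Fib Q (Over.mk s) x} =>
        ⟨⟨𝒟.L B s x.1, 𝒟.isQuotPt B s x.1, (Dict.fib_iff hQ s x.1).1 x.2⟩, 𝒟.le B s x.1⟩)
      ⟨fun x y h => Subtype.ext (𝒟.inj B s (congrArg (fun z => z.1.1) h)), fun K => by
        obtain ⟨x, hx⟩ := 𝒟.surj B s K.1.1 K.1.2.1 K.2
        exact ⟨⟨x, (Dict.fib_iff hQ s x).2 (hx ▸ K.1.2.2)⟩, Subtype.ext (Subtype.ext hx)⟩⟩)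
    (fun B C _ _ φ s x => 𝒟.nat B C φ s _ _ rfl _)
  exact ⟨H, ξ, N, c', h1, h2, h3⟩

/-- The part of the Quot functor with Hilbert polynomial `Φ` is represented by a closed subscheme of some `P^N_S`. -/
theorem exists_part [IsLocallyNoetherian S] (hF : Coh.IsCoh F) (hE : GlobGen f g₀ E) {Φ : ℤ → ℤ}
    (hΦ : Num (n + 1) Φ) :
    ∃ (H : Over S) (ξ : (part (QuotFun.quot f F) (Fib (QQ f g₀ F Φ)) Fib.pull).obj (op H)) (N : ℕ)
      (c : H.left ⟶ CohB1.ProjSpaceOver N S),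
      NRep (part (QuotFun.quot f F) (Fib (QQ f g₀ F Φ)) Fib.pull) H ξ ∧ IsClosedImmersion c ∧
        c ≫ CohB1.ProjSpaceOver.toBase N S = H.hom :=
  exists_nrep_of_dict (dictG hF hE) (QuotFun.isZarSheaf_quot f F) (QT11.num_shift (a : ℤ) hΦ)
    (compat hF hE Φ)

/-- **The Quot scheme is a disjoint union of closed subschemes of projective spaces over the base.** -/
theorem exists_quot [IsLocallyNoetherian S] (hF : Coh.IsCoh F) (hE : GlobGen f g₀ E) :
    ∃ (Q : Over S) (K : FGA.QuotSet f F Q), FGA.QuotRepresentedBy f F Q K ∧ DisjProj.IsDP Q := by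
  choose H ξ N c hξ hc hc' using fun φ : QT9Asm.Idx.{u} (n + 1) => exists_part hF hE φ.down.2
  obtain ⟨ζ, hζ, -⟩ := exists_nrep_coprod H (QuotFun.isZarSheaf_quot f F)
    (fun (φ : QT9Asm.Idx.{u} (n + 1)) => Fib (QQ f g₀ F φ.down.1))
    (fun _ _ _ g x h => Fib.pull g x h) (fun _ T 𝒱 x h => Fib.loc T 𝒱 x h)
    (by
      intro φ ψ T x h1 h2 hT
      obtain ⟨K, hK, s, g, -⟩ := exists_field_point hT
      have := QHilb.unique φ.down.2 ψ.down.2 (h1 K s g) (h2 K s g)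
      exact ULift.ext _ _ (Subtype.ext this))
    (by
      intro T _ x t
      obtain ⟨Φ, hΦ, U, htU, hU⟩ := QG5.cov f g₀ hF T x t
      exact ⟨⟨⟨Φ, hΦ⟩⟩, U, htU, hU⟩)
    (fun φ => (ξ φ : {x : (QuotFun.quot f F).obj (op (H φ)) // Fib (QQ f g₀ F φ.down.1) (H φ) x}).1)
    (fun φ => (ξ φ : {x : (QuotFun.quot f F).obj (op (H φ)) // Fib (QQ f g₀ F φ.down.1) (H φ) x}).2)
    (fun φ => (hξ φ).noeth)
    (by
      intro φ T _ x hx
      obtain ⟨g, hg, hg'⟩ := (hξ φ).univ T ⟨x, hx⟩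
      refine ⟨g, congrArg Subtype.val hg, fun k hk => hg' k (Subtype.ext hk)⟩)
  refine ⟨coprodOver H, ζ, (QuotFun.quotRepresentedBy_iff f F (coprodOver H) ζ).2
    ⟨hζ.noeth, fun T _ x => hζ.univ T x⟩, QT9Asm.Idx.{u} (n + 1), fun i => (H i).left, Iso.refl _, N, c,
    fun i => ⟨hc i, ?_⟩⟩
  rw [hc' i]
  have h2 : 𝟙 (∐ fun i => (H i).left) ≫ (Limits.Sigma.desc fun i => (H i).hom) =
    Limits.Sigma.desc fun i => (H i).hom := Category.id_comp _
  have h1 : Limits.Sigma.ι (fun i => (H i).left) i ≫ 𝟙 (∐ fun i => (H i).left) ≫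
      (Limits.Sigma.desc fun i => (H i).hom) = (H i).hom := by
    rw [h2]
    exact Limits.Sigma.ι_desc _ _
  exact h1.symm

/-- Over an affine base there is a global generating system. -/
theorem exists_globGen {n : ℕ} {X S : Scheme.{u}} (f : X ⟶ S) (g₀ : X ⟶ PZ n) {F : X.Modules}
    [IsClosedImmersion (toPS g₀ f)] [IsAffine S] (hF : Coh.IsCoh F) :
    ∃ (a p : ℕ) (E : GenSys (gT f g₀ (Over.mk (𝟙 S))) (FGA.ET f F (Over.mk (𝟙 S))) (Fin p) a),
      GlobGen f g₀ E := by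
  obtain ⟨a, p, E, hE⟩ := QG5.exists_genSys f g₀ hF (B := Γ(S, ⊤)) S.isoSpec.inv
  refine ⟨a, p, pullT f g₀ F E (Over.homMk S.isoSpec.hom S.isoSpec.hom_inv_id :
    Over.mk (𝟙 S) ⟶ Over.mk S.isoSpec.inv), fun B _ _ s => ?_⟩
  rw [Es, pullT_pullT]
  exact gen_pullT hF.1 hE _

end K277.GlobRep
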