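import Groth.Agent.Ega2.TwistBasic
import Groth.Agent.Fga.QT4
import Groth.Agent.Fga.QTPull2
import Groth.Agent.Fdesc.LocGenPullback

/-!
# Frames of the twisting sheaves `O(d)`, `d : ℤ`

For `g : Y ⟶ P^n_ℤ` and a module `L` on `Y`, `TwFr g L d` is a family of generators `t i` of `L` on the charts
`V g i = g⁻¹ D₊(X_i)` with the transition relation of `X_i^d`.

* `TwFr.of g d` : the frame of `g^* O(d)`;
* `TwFr.pull`, `TwFr.congr`.
-/

set_option autoImplicit false
universe u v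

open CategoryTheory CategoryTheory.Limits AlgebraicGeometry Opposite

namespace K277.Frames

open Groth.Agent Fga.QTDefs Fga.QTPull CurvesC.ProjSpaceBasic Ega2.TwistBasic CohqA.PullbackQCoh CohqA.PullbackSections

section Gen0

variable (n : ℕ) (R : Type u) [CommRing R]

lemma X_pow_mem (i : Fin (n + 1)) (m : ℕ) :
    (MvPolynomial.X i : MvPolynomial (Fin (n + 1)) R) ^ m ∈ CohB1.polyGrading n R m := by
  have := SetLike.pow_mem_graded m (X_mem n R i)
  simpa using this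

lemma X_pow_notMem (i : Fin (n + 1)) (m : ℕ) (x : ProjectiveSpectrum (CohB1.polyGrading n R))
    (hx : (MvPolynomial.X i : MvPolynomial (Fin (n + 1)) R) ∉ x.asHomogeneousIdeal) :
    (MvPolynomial.X i : MvPolynomial (Fin (n + 1)) R) ^ m ∉ x.asHomogeneousIdeal :=
  fun h => hx (x.isPrime.mem_of_pow_mem _ h)

/-- The generator `X_i^d` of `O(d)` over `D₊(X_i)`. -/
noncomputable def gen0 (d : ℤ) (i : Fin (n + 1)) : Γ(Twist.twistProjSpace n R d, Dp n R i) :=
  fracSec (𝒜 := CohB1.polyGrading n R) d (⟨_, X_pow_mem n R i d.toNat⟩ : CohB1.polyGrading n R d.toNat)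
    (⟨_, X_pow_mem n R i (-d).toNat⟩ : CohB1.polyGrading n R (-d).toNat) (by omega) (Dp n R i)
    (fun x hx => X_pow_notMem n R i _ x hx)

lemma isGen_gen0 (d : ℤ) (i : Fin (n + 1)) : Fdesc.LocGen.IsGen (gen0 n R d i) :=
  isGen_fracSec d _ _ _ (Dp n R i) _ (fun x hx => X_pow_notMem n R i _ x hx)

lemma ratio_val (i k : Fin (n + 1)) (x : ProjectiveSpectrum (CohB1.polyGrading n R)) (hx : x ∈ Dp n R i) :
    ((show (ProjectiveSpectrum.Proj.structureSheaf (CohB1.polyGrading n R)).1.obj (op (Dp n R i)) from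
      ratio n R i k).1 ⟨x, hx⟩).val = Localization.mk (MvPolynomial.X k) ⟨MvPolynomial.X i, hx⟩ := by
  have h3 := ProjectiveSpectrum.Proj.awayToSection_apply (CohB1.polyGrading n R) (MvPolynomial.X i)
    (HomogeneousLocalization.Away.mk _ (X_mem n R i) 1 (MvPolynomial.X k) (by rw [one_smul]; exact X_mem n R k))
    ⟨x, hx⟩
  refine h3.trans ?_
  rw [HomogeneousLocalization.Away.val_mk, Localization.mk_eq_mk', IsLocalization.map_mk', Localization.mk_eq_mk']
  congr 1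
  apply Subtype.ext
  simp

lemma mk_glue (d : ℤ) (i k : Fin (n + 1)) (x : ProjectiveSpectrum (CohB1.polyGrading n R))
    (hi : (MvPolynomial.X i : MvPolynomial (Fin (n + 1)) R) ∉ x.asHomogeneousIdeal)
    (hk : (MvPolynomial.X k : MvPolynomial (Fin (n + 1)) R) ∉ x.asHomogeneousIdeal)
    (c : Twist.Loc (CohB1.polyGrading n R) x) (hc : c = Localization.mk (MvPolynomial.X k) ⟨MvPolynomial.X i, hi⟩) :
    c ^ d.toNat * Localization.mk (MvPolynomial.X i ^ d.toNat)
        ⟨MvPolynomial.X i ^ (-d).toNat, X_pow_notMem n R i _ x hi⟩ =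
      c ^ (-d).toNat * Localization.mk (MvPolynomial.X k ^ d.toNat)
        ⟨MvPolynomial.X k ^ (-d).toNat, X_pow_notMem n R k _ x hk⟩ := by
  subst hc
  rw [Localization.mk_pow, Localization.mk_pow, Localization.mk_mul,
    Localization.mk_mul, Localization.mk_eq_mk_iff, Localization.r_iff_exists]
  refine ⟨1, ?_⟩
  simp only [OneMemClass.coe_one, one_mul, Submonoid.coe_mul, SubmonoidClass.coe_pow]
  rcases le_total 0 d with he | he
  · have h1 : (-d).toNat = 0 := Int.toNat_of_nonpos (by omega)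
    rw [h1]
    ring
  · have h1 : d.toNat = 0 := Int.toNat_of_nonpos he
    rw [h1]
    ring

/-- the ratio on the overlap -/
noncomputable def ratio2 (i k : Fin (n + 1)) : Γ(CohB1.ProjSpace n R, Dp n R i ⊓ Dp n R k) :=
  (CohB1.ProjSpace n R).presheaf.map (homOfLE (inf_le_left : Dp n R i ⊓ Dp n R k ≤ Dp n R i)).op (ratio n R i k)

lemma ratio2_val (i k : Fin (n + 1)) (x : ProjectiveSpectrum (CohB1.polyGrading n R)) (hx : x ∈ Dp n R i ⊓ Dp n R k) :
    ((show (ProjectiveSpectrum.Proj.structureSheaf (CohB1.polyGrading n R)).1.obj (op (Dp n R i ⊓ Dp n R k)) from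
      ratio2 n R i k).1 ⟨x, hx⟩).val = Localization.mk (MvPolynomial.X k) ⟨MvPolynomial.X i, hx.1⟩ :=
  ratio_val n R i k x hx.1

/-- The transition relation. -/
lemma gen0_glue (d : ℤ) (i k : Fin (n + 1)) :
    (ratio2 n R i k) ^ d.toNat •
      (Twist.twistProjSpace n R d).presheaf.map (homOfLE (inf_le_left : Dp n R i ⊓ Dp n R k ≤ Dp n R i)).op
        (gen0 n R d i) =
    (ratio2 n R i k) ^ (-d).toNat •
      (Twist.twistProjSpace n R d).presheaf.map (homOfLE (inf_le_right : Dp n R i ⊓ Dp n R k ≤ Dp n R k)).op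
        (gen0 n R d k) := by
  apply Subtype.ext
  funext x
  apply Subtype.ext
  have hc := ratio2_val n R i k x.1 x.2
  refine (Twist.coe_smul_val (𝒜 := CohB1.polyGrading n R) _ x.1 ((show
    (ProjectiveSpectrum.Proj.structureSheaf (CohB1.polyGrading n R)).1.obj (op (Dp n R i ⊓ Dp n R k)) from
      ratio2 n R i k).1 ⟨x, x.2⟩ ^ d.toNat) _).trans ?_
  refine Eq.trans ?_ (Twist.coe_smul_val (𝒜 := CohB1.polyGrading n R) _ x.1 ((show
    (ProjectiveSpectrum.Proj.structureSheaf (CohB1.polyGrading n R)).1.obj (op (Dp n R i ⊓ Dp n R k)) from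
      ratio2 n R i k).1 ⟨x, x.2⟩ ^ (-d).toNat) _).symm
  rw [HomogeneousLocalization.val_pow, HomogeneousLocalization.val_pow]
  exact mk_glue n R d i k x.1 x.2.1 x.2.2 _ hc

end Gen0

variable {n : ℕ} {Y Y' : Scheme.{u}}

/-- A frame of `L` of twist `d`. -/
structure TwFr (g : Y ⟶ PZ n) (L : Y.Modules) (d : ℤ) where
  /-- the generators -/
  t : ∀ i : Fin (n + 1), Γ(L, V g i)
  gen : ∀ i, Fdesc.LocGen.IsGen (t i)
  glue : ∀ i k : Fin (n + 1),
    (resR (inf_le_left : V g i ⊓ V g k ≤ V g i) (y g i k)) ^ d.toNat •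
        resM L (inf_le_left : V g i ⊓ V g k ≤ V g i) (t i) =
      (resR (inf_le_left : V g i ⊓ V g k ≤ V g i) (y g i k)) ^ (-d).toNat •
        resM L (inf_le_right : V g i ⊓ V g k ≤ V g k) (t k)

lemma isGen_pbSec (h : Y' ⟶ Y) {L : Y.Modules} {U : Y.Opens} {U' : Y'.Opens} (hU : U' ≤ h ⁻¹ᵁ U) {s : Γ(L, U)}
    (hs : Fdesc.LocGen.IsGen s) : Fdesc.LocGen.IsGen (pbSec h L U U' hU s) :=
  (hs.pullSec h).res hU

lemma resM_eq_res {M : Y.Modules} {U V : Y.Opens} (h : V ≤ U) (s : Γ(M, U)) :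
    resM M h s = Fdesc.LocGen.res M h s := rfl

/-- Frames of isomorphic modules. -/
noncomputable def TwFr.congr {g : Y ⟶ PZ n} {L L' : Y.Modules} {d : ℤ} (F : TwFr g L d) (e : L ≅ L') : TwFr g L' d where
  t i := e.hom.app _ (F.t i)
  gen i := (F.gen i).app e.hom
  glue i k := by
    have h := congrArg (e.hom.app (V g i ⊓ V g k)) (F.glue i k)
    rw [Scheme.Modules.Hom.app_smul, Scheme.Modules.Hom.app_smul] at h
    rw [resM_eq_res, resM_eq_res, ← Fdesc.LocGen.app_res, ← Fdesc.LocGen.app_res]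
    exact h

/-- Pull back of frames. -/
noncomputable def TwFr.pull {g : Y ⟶ PZ n} {g' : Y' ⟶ PZ n} {h : Y' ⟶ Y} (hg : h ≫ g = g') {L : Y.Modules} {d : ℤ}
    (F : TwFr g L d) : TwFr g' ((Scheme.Modules.pullback h).obj L) d where
  t i := pbSec h L (V g i) (V g' i) (V_le hg i) (F.t i)
  gen i := isGen_pbSec h (V_le hg i) (F.gen i)
  glue i k := by
    have hle : V g' i ⊓ V g' k ≤ h ⁻¹ᵁ (V g i ⊓ V g k) := inf_le_inf (V_le hg i) (V_le hg k)
    have h1 := congrArg (pbSec h L (V g i ⊓ V g k) (V g' i ⊓ V g' k) hle) (F.glue i k)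
    rw [pbSec_smul, pbSec_smul, map_pow, map_pow, ← appLE_resR h (V_le hg i) hle inf_le_left inf_le_left,
      y_pull hg] at h1
    rw [pbSec_res h L (V_le hg i) hle inf_le_left inf_le_left,
      pbSec_res h L (V_le hg k) hle inf_le_right inf_le_right]
    exact h1

lemma V_le0 (g : Y ⟶ PZ n) (i : Fin (n + 1)) : V g i ≤ g ⁻¹ᵁ (Dp n (ULift.{u} ℤ) i) := le_rfl

/-- The frame of `g^* O(d)`. -/
noncomputable def TwFr.of (g : Y ⟶ PZ n) (d : ℤ) :
    TwFr g ((Scheme.Modules.pullback g).obj (Twist.twistProjSpace n (ULift.{u} ℤ) d)) d where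
  t i := pbSec g _ (Dp n (ULift.{u} ℤ) i) (V g i) (V_le0 g i) (gen0 n (ULift.{u} ℤ) d i)
  gen i := isGen_pbSec g (V_le0 g i) (isGen_gen0 n (ULift.{u} ℤ) d i)
  glue i k := by
    have hle : V g i ⊓ V g k ≤ g ⁻¹ᵁ (Dp n (ULift.{u} ℤ) i ⊓ Dp n (ULift.{u} ℤ) k) := le_rfl
    have hy : resR (inf_le_left : V g i ⊓ V g k ≤ V g i) (y g i k) =
        (g.appLE (Dp n (ULift.{u} ℤ) i ⊓ Dp n (ULift.{u} ℤ) k) (V g i ⊓ V g k) hle).hom
          (ratio2 n (ULift.{u} ℤ) i k) := by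
      rw [Fga.QT4.resR_y g i k (inf_le_left : Dp n (ULift.{u} ℤ) i ⊓ Dp n (ULift.{u} ℤ) k ≤ _) hle inf_le_left]
      rfl
    have h1 := congrArg (pbSec g _ (Dp n (ULift.{u} ℤ) i ⊓ Dp n (ULift.{u} ℤ) k) (V g i ⊓ V g k) hle)
      (gen0_glue n (ULift.{u} ℤ) d i k)
    rw [pbSec_smul, pbSec_smul, map_pow, map_pow, ← hy] at h1
    rw [pbSec_res g _ (V_le0 g i) hle inf_le_left inf_le_left, pbSec_res g _ (V_le0 g k) hle inf_le_right inf_le_right]
    exact h1

end K277.Frames
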