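import Groth.Agent.Dual.H366.Untensor
import Groth.Agent.Fga.QT8Map
import Groth.Agent.Fga.EulerIso
import Groth.Agent.FGA.K277.Frames

/-!
# Global sections of `F(d)` and twisted sections

For a frame `T : TwFr g L d`, `d ≥ 0`: `secEquiv : Γ(F ⊗ L, Y) ≃+ TwSec g q F d`, linear over the base ring, and
`finrank_HH` : `dim H⁰(Y, F ⊗ L) = dim TwSec g q F d`.
-/

set_option autoImplicit false
universe u

open CategoryTheory CategoryTheory.Limits AlgebraicGeometry Opposite TopologicalSpace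

namespace K277.TwSecIso

open Groth.Agent Fga.QTDefs Fga.QT8 Frames

section tm

variable {Y : Scheme.{u}} (F : Y.Modules) {L : Y.Modules} {U V : Y.Opens}

/-- `z ↦ z ⊗ ℓ`. -/
noncomputable def tm (ℓ : Γ(L, U)) : Γ(F, U) →+ Γ(CohB1.tensorMod F L, U) :=
  (Dual.H366.Untensor.tl F (N := L) (V := U) ℓ).toAddMonoidHom

lemma tm_smul (ℓ : Γ(L, U)) (a : Γ(Y, U)) (z : Γ(F, U)) : tm F ℓ (a • z) = a • tm F ℓ z :=
  (Dual.H366.Untensor.tl F (N := L) (V := U) ℓ).map_smul a z

lemma tm_smul_left (ℓ : Γ(L, U)) (a : Γ(Y, U)) (z : Γ(F, U)) : tm F (a • ℓ) z = a • tm F ℓ z :=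
  Dual.H366.Untensor.tl_smul F (N := L) (V := U) a ℓ z

lemma resM_tm (h : V ≤ U) (ℓ : Γ(L, U)) (z : Γ(F, U)) :
    resM _ h (tm F ℓ z) = tm F (resM L h ℓ) (resM F h z) :=
  (Dual.H366.Untensor.tl_res F (N := L) h ℓ z).symm

lemma isGen_conv {ℓ : Γ(L, U)} (h : Fdesc.LocGen.IsGen ℓ) : Dual.H366.Untensor.IsGen (N := L) (U := U) ℓ := by
  intro V hV
  have h1 := (h V hV).comp (Equiv.funUnique (Fin 1) Γ(Y, V)).bijective
  refine (congrArg Function.Bijective (funext fun a => ?_)).mp h1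
  refine Eq.trans ?_ (Sga67.LocBasis.comb_apply (M := L) (U := U) (fun _ : Fin 1 => ℓ) hV a).symm
  refine Eq.trans ?_ (Fin.sum_univ_one (fun i : Fin 1 => a i • Sga67.Sec.res L hV ℓ)).symm
  rfl

lemma tm_bijective {ℓ : Γ(L, U)} (h : Fdesc.LocGen.IsGen ℓ) : Function.Bijective (tm F ℓ) := by
  have h1 := Dual.H366.Untensor.tl_bijective F (isGen_conv h) (le_refl U)
  have h2 : Sga67.Sec.res L (le_refl U) ℓ = ℓ := Sga67.Sec.res_self (M := L) (U := U) (le_refl U) ℓ
  rw [h2] at h1
  exact h1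

end tm

variable {n : ℕ} {Y : Scheme.{u}} {g : Y ⟶ PZ n} {A : Type u} [CommRing A] (q : Y ⟶ Spec (CommRingCat.of A))
  (F : Y.Modules) {L : Y.Modules} {d : ℕ} (T : TwFr g L d)

lemma glue_t (i k : Fin (n + 1)) :
    (resR (inf_le_left : V g i ⊓ V g k ≤ V g i) (y g i k)) ^ d •
        resM L (inf_le_left : V g i ⊓ V g k ≤ V g i) (T.t i) =
      resM L (inf_le_right : V g i ⊓ V g k ≤ V g k) (T.t k) := by
  have h := T.glue i k
  have h1 : ((d : ℤ)).toNat = d := Int.toNat_natCast d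
  have h2 : (-(d : ℤ)).toNat = 0 := by omega
  rw [h1, h2, pow_zero, one_smul] at h
  exact h

/-- on overlaps -/
lemma tm_overlap (i k : Fin (n + 1)) (z : Γ(F, V g i)) (z' : Γ(F, V g k)) :
    resM _ (inf_le_left : V g i ⊓ V g k ≤ V g i) (tm F (T.t i) z) =
      resM _ (inf_le_right : V g i ⊓ V g k ≤ V g k) (tm F (T.t k) z') ↔
    resM F (inf_le_left : V g i ⊓ V g k ≤ V g i) z =
      (resR (inf_le_left : V g i ⊓ V g k ≤ V g i) (y g i k)) ^ d •
        resM F (inf_le_right : V g i ⊓ V g k ≤ V g k) z' := by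
  rw [resM_tm, resM_tm, ← glue_t T i k, tm_smul_left, ← tm_smul]
  exact (tm_bijective F ((T.gen i).res inf_le_left)).1.eq_iff

/-- The chart components of a section of `F ⊗ L`. -/
noncomputable def comp (z : Γ(CohB1.tensorMod F L, ⊤)) (i : Fin (n + 1)) : Γ(F, V g i) :=
  (Equiv.ofBijective _ (tm_bijective F (T.gen i))).symm (resM _ le_top z)

lemma tm_comp (z : Γ(CohB1.tensorMod F L, ⊤)) (i : Fin (n + 1)) :
    tm F (T.t i) (comp F T z i) = resM _ le_top z :=
  (Equiv.ofBijective _ (tm_bijective F (T.gen i))).apply_symm_apply _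

lemma comp_mem (z : Γ(CohB1.tensorMod F L, ⊤)) :
    (show Sec g q F from comp F T z) ∈ TwSec g q F d := by
  intro i k
  rw [← tm_overlap F T i k, tm_comp, tm_comp, resM_resM, resM_resM]

/-- **Sections of `F(d)` are twisted sections.** -/
noncomputable def secEquiv : Γ(CohB1.tensorMod F L, ⊤) ≃+ TwSec g q F d :=
  AddEquiv.ofBijective (M := Γ(CohB1.tensorMod F L, ⊤)) (N := TwSec g q F d) (F := _ →+ _)
    { toFun := fun z => (⟨comp F T z, comp_mem q F T z⟩ : TwSec g q F d)
      map_zero' := by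
        apply Subtype.ext
        funext i
        apply (tm_bijective F (T.gen i)).1
        rw [tm_comp]
        exact (resM_zero _).trans (map_zero (tm F (T.t i))).symm
      map_add' := fun a b => by
        apply Subtype.ext
        funext i
        apply (tm_bijective F (T.gen i)).1
        rw [tm_comp, resM_add]
        change _ = tm F (T.t i) (comp F T a i + comp F T b i)
        rw [map_add, tm_comp, tm_comp] }
    (by
      constructor
      · intro a b h
        have h1 : comp F T a = comp F T b := congrArg Subtype.val h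
        refine Fdesc.LocGen.res_ext (CohB1.tensorMod F L) (fun i => V g i) (fun _ => le_top)
          (by rw [Fga.QT4.iSup_V]) fun i => ?_
        have h2 := congrArg (tm F (T.t i)) (congrFun h1 i)
        rw [tm_comp, tm_comp] at h2
        exact h2
      · rintro ⟨m, hm⟩
        obtain ⟨z, hz⟩ := Fdesc.LocGen.res_glue (CohB1.tensorMod F L) (fun i => V g i) (V := ⊤) (fun _ => le_top)
          (by rw [Fga.QT4.iSup_V]) (fun i => tm F (T.t i) (m i)) (fun i k => (tm_overlap F T i k _ _).2 (hm i k))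
        refine ⟨z, Subtype.ext (funext fun i => ?_)⟩
        apply (tm_bijective F (T.gen i)).1
        change tm F (T.t i) (comp F T z i) = _
        rw [tm_comp]
        exact hz i)

lemma tm_secEquiv (z : Γ(CohB1.tensorMod F L, ⊤)) (i : Fin (n + 1)) :
    tm F (T.t i) ((secEquiv q F T z).1 i) = resM _ le_top z := tm_comp F T z i

lemma secEquiv_smul (a : A) (z : Γ(CohB1.tensorMod F L, ⊤)) :
    secEquiv q F T (coeff q ⊤ a • z) = a • secEquiv q F T z := by
  apply Subtype.ext
  funext i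
  apply (tm_bijective F (T.gen i)).1
  rw [tm_secEquiv, resM_smul, Fga.QT8.resR_coeff]
  change _ = tm F (T.t i) (coeff q (V g i) a • (secEquiv q F T z).1 i)
  rw [tm_smul, tm_secEquiv]

section H0

variable {X : Scheme.{u}}

/-- `H⁰` is global sections. -/
noncomputable def h0 (M : X.Modules) : Coh.HH X M 0 ≃+ Γ(M, ⊤) :=
  Sheaf.H.equiv₀ (Coh.toAb M) (isTerminalTop : IsTerminal (⊤ : Opens X))

lemma h0_smul (M : X.Modules) (r : Coh.Γtop X) (x : Coh.HH X M 0) :
    h0 M (r • x) = (show Γ(X, ⊤) from r) • h0 M x := by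
  have h := (Sheaf.H.equiv₀_naturality (isTerminalTop : IsTerminal (⊤ : Opens X)) (Coh.smulAb M r) x).symm
  refine h.trans ?_
  have h2 : (show Γ(X, ⊤) from Coh.resTop X (op ⊤) r) = (show Γ(X, ⊤) from r) :=
    Fdesc.LocGen.ores_refl (X := X) r
  exact congrArg (fun s : Γ(X, ⊤) => s • h0 M x) h2

end H0

/-- `H⁰(Y, F(d))` and twisted sections. -/
noncomputable def hhEquiv [Y.Over (Spec (CommRingCat.of A))] :
    Coh.HH Y (CohB1.tensorMod F L) 0 ≃ₗ[A] TwSec g (Y ↘ Spec (CommRingCat.of A)) F d :=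
  { (h0 (CohB1.tensorMod F L)).trans (secEquiv (Y ↘ Spec (CommRingCat.of A)) F T) with
    map_smul' := fun a x => by
      change secEquiv _ F T (h0 _ (Coh.toGlobal (Y ↘ Spec (CommRingCat.of A)) a • x)) = _
      rw [h0_smul]
      have h1 : (show Γ(Y, ⊤) from Coh.toGlobal (Y ↘ Spec (CommRingCat.of A)) a) =
          coeff (Y ↘ Spec (CommRingCat.of A)) ⊤ a := (Fga.QT8.resR_self _ _).symm
      rw [h1, secEquiv_smul]
      rfl }

end K277.TwSecIso
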