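import Groth.Agent.Fga.HilbClosed
import Groth.Agent.Fga.QD1Hilb
import Groth.Agent.Fga.QHAlg
import Groth.Agent.Fga.ClosedSub

/-!
# Containment of closed subschemes of `P^n_T` in a flat family is a closed condition

`f : P^n_S ⟶ S`, `H` locally Noetherian over `S`, `Z` a flat family over `H`, `J` any ideal sheaf on `P^n_H`:
the `g : T ⟶ H` with `g^* J ≤ g^* Z` (i.e. `Z_T ⊆ V(J)_T`) are those factoring through a closed subscheme.
-/

set_option autoImplicit false
universe u

open CategoryTheory CategoryTheory.Limits AlgebraicGeometry MvPolynomial CohB1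

namespace K277.NestCond

open Groth.Agent Groth.Agent.Fga Groth.Agent.Fga.HilbClosed Groth.Agent.Fga.QD1Hilb Groth.Agent.Picfga.IdealGlue

section Cond

variable {Y S : Scheme.{u}} (f : Y ⟶ S) {H : Over S} (J Z : (PicF.XT f H).IdealSheafData)

/-- The family pulled back along `g` is contained in `V(J)_T`. -/
def Cond {T : Over S} (g : T ⟶ H) : Prop := FGA.hilbPull f g J ≤ FGA.hilbPull f g Z

variable {f Z J}

theorem Cond.comp {T T' : Over S} {g : T ⟶ H} (h : Cond f J Z g) (a : T' ⟶ T) : Cond f J Z (a ≫ g) := by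
  unfold Cond at h ⊢
  rw [HilbFun.hilbPull_comp, HilbFun.hilbPull_comp, RelCart.hilbPull_eq_comap f a, RelCart.hilbPull_eq_comap f a]
  exact Scheme.IdealSheafData.comap_mono _ h

theorem cond_iff_of_iso {T T' : Over S} (a : T' ⟶ T) [IsIso a] (g : T ⟶ H) :
    Cond f J Z (a ≫ g) ↔ Cond f J Z g := by
  refine ⟨fun h => ?_, fun h => h.comp a⟩
  have := h.comp (inv a)
  rwa [IsIso.inv_hom_id_assoc] at this

theorem cond_of_cover {T : Over S} (g : T ⟶ H)
    (h : ∀ t : T.left, ∃ (V : Over S) (j : V ⟶ T), IsOpenImmersion j.left ∧ t ∈ Set.range j.left ∧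
      Cond f J Z (j ≫ g)) : Cond f J Z g := by
  unfold Cond
  rw [← inf_eq_left]
  refine ext_of_forall_exists fun y => ?_
  obtain ⟨V, j, hj, ⟨v, hv⟩, hc⟩ := h (PicF.XTproj f T y)
  have hop : IsOpenImmersion (PicF.XTmap f j) :=
    MorphismProperty.of_isPullback (P := @IsOpenImmersion) (RelCart.isPullback_XTmap f j).flip hj
  obtain ⟨z, hz, -⟩ := Scheme.exists_preimage_of_isPullback (RelCart.isPullback_XTmap f j) y v hv.symm
  refine ⟨_, PicF.XTmap f j, hop, z, hz, ?_⟩
  rw [comap_inf_of_isOpenImmersion, inf_eq_left, ← RelCart.hilbPull_eq_comap f j,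
    ← RelCart.hilbPull_eq_comap f j, ← HilbFun.hilbPull_comp, ← HilbFun.hilbPull_comp]
  exact hc

end Cond

section Proj

variable {S : Scheme.{u}} {n : ℕ}

theorem cond_iff {H : Over S} (J Z : (PicF.XT (ProjSpaceOver.toBase n S) H).IdealSheafData) {A B : Type u}
    [CommRing A] [CommRing B] (φ : A →+* B) (t : Spec (CommRingCat.of A) ⟶ S)
    (t' : Spec (CommRingCat.of B) ⟶ S) (g : Over.mk t' ⟶ Over.mk t)
    (hg : g.left = Spec.map (CommRingCat.ofHom φ)) (v : Over.mk t ⟶ H) :
    Cond _ J Z (g ≫ v) ↔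
      QA0.bc φ (K t (FGA.hilbPull (ProjSpaceOver.toBase n S) v J)) ≤
        QA0.bcSat φ (K t (FGA.hilbPull (ProjSpaceOver.toBase n S) v Z)) := by
  unfold Cond
  rw [← K_le_iff, HilbFun.hilbPull_comp, HilbFun.hilbPull_comp, K_hilbPull φ t t' g hg, K_hilbPull φ t t' g hg]
  constructor
  · exact fun h => (QA0.le_sat _).trans h
  · intro h
    refine (QA0.sat_mono h).trans ?_
    exact QA0.isSat_sat _

/-- Away maps are open immersions onto the basic open. -/
theorem exists_const_chart (H : Scheme.{u}) [IsLocallyNoetherian H] (x : H)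
    (P : ∀ (A : CommRingCat.{u}) [IsNoetherianRing A] (_ : Spec A ⟶ H), Prop)
    (hP : ∀ (A : CommRingCat.{u}) [IsNoetherianRing A] (v : Spec A ⟶ H) (p : PrimeSpectrum A), IsOpenImmersion v →
      ∃ f : A, f ∉ p.asIdeal ∧ P (CommRingCat.of (Localization.Away f))
        (Spec.map (CommRingCat.ofHom (algebraMap A (Localization.Away f))) ≫ v)) :
    ∃ (A : CommRingCat.{u}) (_ : IsNoetherianRing A) (v : Spec A ⟶ H) (_ : IsOpenImmersion v),
      x ∈ Set.range v ∧ P A v := by
  obtain ⟨A, hA, v, hv, ⟨p, hp⟩, -⟩ := NoethRep.exists_aff H x ⊤ trivial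
  obtain ⟨f, hf, hPf⟩ := hP A v p hv
  have hN : IsNoetherianRing (CommRingCat.of (Localization.Away f)) :=
    inferInstanceAs (IsNoetherianRing (Localization.Away f))
  refine ⟨CommRingCat.of (Localization.Away f), hN,
    Spec.map (CommRingCat.ofHom (algebraMap A (Localization.Away f))) ≫ v, inferInstance, ?_, hPf⟩
  have hr : p ∈ Set.range (Spec.map (CommRingCat.ofHom (algebraMap A (Localization.Away f)))) := by
    have := PrimeSpectrum.localization_away_comap_range (Localization.Away f) f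
    have h2 : p ∈ Set.range (PrimeSpectrum.comap (algebraMap A (Localization.Away f))) := by
      rw [this]; exact hf
    exact h2
  obtain ⟨q, hq⟩ := hr
  refine ⟨q, ?_⟩
  rw [Scheme.Hom.comp_apply, hq, hp]

theorem isClosedCond {H : Over S} [IsLocallyNoetherian H.left]
    (Z : FGA.HilbSet (ProjSpaceOver.toBase n S) H) (J : (PicF.XT (ProjSpaceOver.toBase n S) H).IdealSheafData) :
    ClosedSub.IsClosedCond H.left IsLocallyNoetherian
      (fun {T} h => Cond (ProjSpaceOver.toBase n S) J Z.1 (Over.homMk h : Over.mk (h ≫ H.hom) ⟶ H)) where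
  comp {T' T} j h _ _ hh := by
    let a : Over.mk ((j ≫ h) ≫ H.hom) ⟶ Over.mk (h ≫ H.hom) := Over.homMk j (by simp)
    exact hh.comp a
  loc {T} h _ hh := by
    refine cond_of_cover _ fun t => ?_
    obtain ⟨V, hV, hc⟩ := hh t
    let a : Over.mk ((V.ι ≫ h) ≫ H.hom) ⟶ Over.mk (h ≫ H.hom) := Over.homMk V.ι (by simp)
    exact ⟨_, a, inferInstanceAs (IsOpenImmersion V.ι), ⟨⟨t, hV⟩, rfl⟩, hc⟩
  aff x := by
    obtain ⟨A, hA, v, hv, hx, Φ, hΦ, hHP⟩ := exists_const_chart H.left x
      (fun A _ v => ∃ Φ : ℤ → ℤ, QA1.Num (n + 1) Φ ∧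
        HilbAsm1.HP Φ (K (A := A) (v ≫ H.hom) (FGA.hilbPull (ProjSpaceOver.toBase n S)
          (Over.homMk v : Over.mk (v ≫ H.hom) ⟶ H) Z.1))) (by
        intro A _ v p hv
        let t : Spec A ⟶ S := v ≫ H.hom
        let v' : Over.mk t ⟶ H := Over.homMk v
        have hK : QA0.IsQuotPt (K (A := A) t (FGA.hilbPull (ProjSpaceOver.toBase n S) v' Z.1)) :=
          (isQuotPt_K_iff (A := A) t _).2 (mem_hilbPull _ v' Z)
        obtain ⟨Φ, hΦ, f, hf, h1⟩ := QHAlg.cov hK p
        rw [Fintype.card_fin] at hΦ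
        refine ⟨f, hf, Φ, hΦ, ?_⟩
        let g : Over.mk ((Spec.map (CommRingCat.ofHom (algebraMap A (Localization.Away f))) ≫ v) ≫ H.hom) ⟶
            Over.mk t := Over.homMk (Spec.map (CommRingCat.ofHom (algebraMap A (Localization.Away f)))) (by simp [t])
        have e : (Over.homMk (Spec.map (CommRingCat.ofHom (algebraMap A (Localization.Away f))) ≫ v) :
          Over.mk ((Spec.map (CommRingCat.ofHom (algebraMap A (Localization.Away f))) ≫ v) ≫ H.hom) ⟶ H) =
            g ≫ v' := rfl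
        intro k _ φ
        have h2 : K (A := Localization.Away f)
            ((Spec.map (CommRingCat.ofHom (algebraMap A (Localization.Away f))) ≫ v) ≫ H.hom)
            (FGA.hilbPull (ProjSpaceOver.toBase n S) (g ≫ v') Z.1) =
            QA0.bcSat (algebraMap A (Localization.Away f))
              (K (A := A) t (FGA.hilbPull (ProjSpaceOver.toBase n S) v' Z.1)) := by
          rw [HilbFun.hilbPull_comp]
          exact K_hilbPull (algebraMap A (Localization.Away f)) t _ g rfl _
        obtain ⟨D, hD⟩ := h1 k (φ.comp (algebraMap A (Localization.Away f))) (by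
          intro h0
          have h3 : IsUnit (φ (algebraMap A (Localization.Away f) f)) :=
            (IsLocalization.Away.algebraMap_isUnit f).map φ
          rw [RingHom.comp_apply] at h0
          rw [h0] at h3
          exact not_isUnit_zero h3)
        refine ⟨D, fun d hd => ?_⟩
        rw [← hD d hd, e]
        have h4 := congrArg (QA0.bcSat φ) h2
        rw [← QA0.bcSat_comp] at h4
        exact congrArg (fun L => QA1.h L d) h4)
    let t : Spec A ⟶ S := v ≫ H.hom
    let v' : Over.mk t ⟶ H := Over.homMk v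
    let K₀ := K (A := A) t (FGA.hilbPull (ProjSpaceOver.toBase n S) v' Z.1)
    have hK : QA0.IsQuotPt K₀ := (isQuotPt_K_iff (A := A) t _).2 (mem_hilbPull _ v' Z)
    obtain ⟨I, hI⟩ := QHAlg.closed_cond hK (by rw [Fintype.card_fin]; exact hΦ) hHP
      (K_isHom (A := A) t (FGA.hilbPull (ProjSpaceOver.toBase n S) v' J))
    refine ⟨A, v, hv, hx, I, fun B φ hB => ?_⟩
    rw [← hI B φ.hom]
    let g : Over.mk ((Spec.map φ ≫ v) ≫ H.hom) ⟶ Over.mk t := Over.homMk (Spec.map φ) (by simp [t])
    exact cond_iff J Z.1 φ.hom t _ g rfl v'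

/-- **The locus where `Z` is contained in `V(J)` is closed.** -/
theorem exists_closed {H : Over S} [IsLocallyNoetherian H.left]
    (Z : FGA.HilbSet (ProjSpaceOver.toBase n S) H) (J : (PicF.XT (ProjSpaceOver.toBase n S) H).IdealSheafData) :
    ∃ (H' : Over S) (j : H' ⟶ H), IsClosedImmersion j.left ∧ IsLocallyNoetherian H'.left ∧ Mono j ∧
      ∀ (T : Over S) [IsLocallyNoetherian T.left] (g : T ⟶ H),
        (∃ g' : T ⟶ H', g' ≫ j = g) ↔
          FGA.hilbPull (ProjSpaceOver.toBase n S) g J ≤ FGA.hilbPull (ProjSpaceOver.toBase n S) g Z.1 := by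
  obtain ⟨Z₁, i, hi, hN, hP, hPi⟩ := ClosedSub.exists_closed (ClosedSub.TestClass.noetherian H.left)
    (isClosedCond Z J)
  let H' : Over S := Over.mk (i ≫ H.hom)
  let j : H' ⟶ H := Over.homMk i
  have hmono : Mono j := by
    have : Mono j.left := inferInstanceAs (Mono i)
    exact (Over.forget S).mono_of_mono_map this
  refine ⟨H', j, hi, hN, hmono, fun T _ g => ?_⟩
  let a : Over.mk (g.left ≫ H.hom) ⟶ T := Over.homMk (𝟙 _) (by simp)
  have ha : IsIso a := by
    have : IsIso ((Over.forget S).map a) := inferInstanceAs (IsIso (𝟙 T.left))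
    exact isIso_of_reflects_iso a (Over.forget S)
  change _ ↔ Cond _ J Z.1 g
  rw [← cond_iff_of_iso a g]
  have e : a ≫ g = (Over.homMk g.left : Over.mk (g.left ≫ H.hom) ⟶ H) := by
    ext1
    simp [a]
  rw [e, hPi g.left inferInstance]
  constructor
  · rintro ⟨g', rfl⟩
    exact ⟨g'.left, rfl⟩
  · rintro ⟨g', hg'⟩
    refine ⟨Over.homMk g' (by
      change g' ≫ i ≫ H.hom = T.hom
      rw [← Category.assoc, hg', Over.w g]), ?_⟩
    ext1
    exact hg'

end Proj

end K277.NestCond
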